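import Cfsg.Agent.Lib.Co3M12.Normal
import Cfsg.Agent.Lib.StdM12.Model.AutFacts

/-!
The outer automorphism on the product on fourteen points, read from the model on the 24 points
(blueprint/S1750.md, step 5).
-/

set_option autoImplicit false
set_option maxRecDepth 100000

namespace CfsgLib.StdM12.Link

open Equiv Cfsg CfsgGolay CfsgM12Det CfsgPC Co3M12 Co3M12.Eng StdM12.Model

/-- An element of the group on the 24 points in the product on fourteen points. -/
noncomputable def lo : ↥MM →* UU :=
  prodEquiv.toMonoidHom.comp ((MonoidHom.inr (Multiplicative (ZMod 2)) ↥Spor.M12).comp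
    (MulEquiv.subgroupCongr mm_eq.symm).toMonoidHom)

theorem lo_inj : Function.Injective lo := fun _ _ h =>
  (MulEquiv.subgroupCongr mm_eq.symm).injective (Prod.ext_iff.mp (prodEquiv.injective h)).2

/-- Every element is in the copy of the Mathieu group or in its translate by the central involution. -/
theorem split (u : UU) : ∃ g : ↥MM, u = lo g ∨ u = zx * lo g := by
  obtain ⟨⟨a, g⟩, rfl⟩ := prodEquiv.surjective u
  refine ⟨(MulEquiv.subgroupCongr mm_eq.symm).symm g, ?_⟩
  have h : lo ((MulEquiv.subgroupCongr mm_eq.symm).symm g) = prodEquiv (1, g) := rfl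
  rcases (by decide : ∀ a : Multiplicative (ZMod 2), a = 1 ∨ a = Multiplicative.ofAdd 1) a with rfl | rfl
  · exact Or.inl h.symm
  · refine Or.inr ?_
    rw [h, ← prodEquiv_zx, ← map_mul]
    exact congrArg _ (Prod.ext (by rw [Prod.fst_mul]; exact (mul_one _).symm) (by rw [Prod.snd_mul]; exact (one_mul _).symm))

/-- A code on fourteen points belongs to a code on the 24 points. -/
def linkB (c d : ℕ) : Bool :=
  inM d && ((List.range 12).all fun i =>
    Nat.beq (papp d (ptsL.getD i 24)) (ptsL.getD (ap c i) 24) && Nat.blt (ap c i) 12) &&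
    Nat.beq (ap c 12) 12 && Nat.beq (ap c 13) 13

/-- The code of the copy of an element. -/
theorem lo_code {c d : ℕ} (h : linkB c d = true) {g : ↥MM} (hg : code (g : Perm GolayPt) = d) : Rp c (lo g) := by
  simp only [linkB, Bool.and_eq_true, List.all_eq_true, List.mem_range, Nat.blt_eq] at h
  obtain ⟨⟨⟨-, h12⟩, ha⟩, hb⟩ := h
  intro i
  show ap c i = ((sigma (1, MulEquiv.subgroupCongr mm_eq.symm g) i : Fin 14) : ℕ)
  induction i using Fin.addCases (m := 12) (n := 2) with
  | left i =>
    obtain ⟨e, hlt⟩ := h12 i i.2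
    rw [sigma_low]
    have : act12 (MulEquiv.subgroupCongr mm_eq.symm g) i = ⟨ap c i, hlt⟩ := by
      show (Equiv.ofBijective _ labelPt_bij).symm (sporAct _ (labelPt i)) = _
      rw [Equiv.symm_apply_eq]
      refine Subtype.ext (idx_injective ?_)
      show idx ((g : Perm GolayPt) (pt (ptsL.getD i 24))) = idx (pt (ptsL.getD (ap c i) 24))
      have hp := (code_repr (g : Perm GolayPt)) (pt (ptsL.getD i 24))
      rw [hg, idx_pt (Nat.blt_eq.mp (List.all_eq_true.mp pts_ok.2 i (List.mem_range.mpr i.2))),
        Nat.eq_of_beq_eq_true e] at hp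
      rw [idx_pt (Nat.blt_eq.mp (List.all_eq_true.mp pts_ok.2 _ (List.mem_range.mpr hlt)))]
      exact hp
    rw [this]; rfl
  | right j =>
    rw [sigma_high, map_one, Perm.one_apply]
    fin_cases j
    · exact Nat.eq_of_beq_eq_true ha
    · exact Nat.eq_of_beq_eq_true hb

/-- Conjugation by the outer involution of the 24 points. -/
noncomputable def flipM : ↥MM ≃* ↥MM where
  toFun g := ⟨projInv * g * projInv, projInv_norm' g.2⟩
  invFun g := ⟨projInv * g * projInv, projInv_norm' g.2⟩
  left_inv g := Subtype.ext (by
    show projInv * (projInv * (g : Perm GolayPt) * projInv) * projInv = g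
    rw [← mul_assoc, ← mul_assoc, projInv_sq, one_mul, mul_assoc, projInv_sq, mul_one])
  right_inv g := Subtype.ext (by
    show projInv * (projInv * (g : Perm GolayPt) * projInv) * projInv = g
    rw [← mul_assoc, ← mul_assoc, projInv_sq, one_mul, mul_assoc, projInv_sq, mul_one])
  map_mul' g h := Subtype.ext (by
    show projInv * ((g : Perm GolayPt) * h) * projInv = projInv * g * projInv * (projInv * h * projInv)
    calc projInv * ((g : Perm GolayPt) * h) * projInv
        = projInv * g * (projInv * projInv) * h * projInv := by rw [projInv_sq, mul_one]; simp only [mul_assoc]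
      _ = _ := by simp only [mul_assoc])

/-- The outer automorphism of the product. -/
noncomputable def beta : UU ≃* UU :=
  (prodEquiv.symm.trans (MulEquiv.prodCongr (MulEquiv.refl _)
    (((MulEquiv.subgroupCongr mm_eq).trans flipM).trans (MulEquiv.subgroupCongr mm_eq.symm)))).trans prodEquiv

theorem beta_lo (g : ↥MM) : beta (lo g) = lo (flipM g) := by
  show prodEquiv (MulEquiv.prodCongr _ _ (prodEquiv.symm (prodEquiv (1, _)))) = _
  rw [MulEquiv.symm_apply_apply]
  rfl

theorem beta_zx : beta zx = zx := by
  rw [← prodEquiv_zx]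
  show prodEquiv (MulEquiv.prodCongr _ _ (prodEquiv.symm (prodEquiv zProd))) = _
  rw [MulEquiv.symm_apply_apply]
  refine congrArg _ (Prod.ext rfl ?_)
  exact map_one (((MulEquiv.subgroupCongr mm_eq).trans flipM).trans (MulEquiv.subgroupCongr mm_eq.symm))

theorem beta_sq (u : UU) : beta (beta u) = u := by
  obtain ⟨g, rfl | rfl⟩ := split u <;> simp only [map_mul, beta_zx, beta_lo]
  · exact congrArg lo (flipM.left_inv g)
  · exact congrArg (fun x => zx * lo x) (flipM.left_inv g)

/-- The code of an image under the outer automorphism. -/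
theorem beta_code {c d c' : ℕ} (h : linkB c d = true) (h' : linkB c' (pcomp cI (pcomp d cI)) = true) {u : UU}
    (hu : Rp c u) : Rp c' (beta u) := by
  obtain ⟨g, hg, e⟩ := exists_of_inM (by
    simp only [linkB, Bool.and_eq_true] at h
    exact h.1.1.1)
  obtain rfl : u = lo ⟨g, hg⟩ := rp_unique hu (lo_code h e)
  rw [beta_lo]
  refine lo_code h' ?_
  show code (projInv * g * projInv) = _
  rw [mul_assoc, code_mul, code_mul, code_projInv, e]

end CfsgLib.StdM12.Link
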