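import Cfsg.Agent.Lib.StdM12.Link.Outer

/-!
An involution whose centraliser is the product on fourteen points, possibly extended by the outer automorphism
(blueprint/S1750.md, step 5).
-/

set_option autoImplicit false
set_option maxRecDepth 100000

namespace CfsgLib.StdM12.Link

open Equiv Subgroup Cfsg CfsgGolay CfsgPC Co3M12 Co3M12.Eng StdM12.Model

attribute [local irreducible] Co3M12.Data.chain

/-- The centraliser of an involution contains the product, the rest acting as the outer automorphism. -/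
structure OBase (X : Type*) [Group X] where
  /-- the embedding -/
  ψ : UU →* X
  inj : Function.Injective ψ
  not_conj : ¬ IsConj (ψ zx) (ψ tx)
  split : ∀ g : X, g * ψ zx = ψ zx * g → (∃ u, ψ u = g) ∨
    ∃ (s : X) (u : UU), g = s * ψ u ∧ (∀ v, s * ψ v * s⁻¹ = ψ (beta v)) ∧ (s * s = 1 ∨ s * s = ψ zx)

variable {X : Type*} [Group X] (B : OBase X)

/-- The central involution. -/
noncomputable def OBase.z : X := B.ψ zx

/-- The involution in the Mathieu part. -/
noncomputable def OBase.t : X := B.ψ tx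

theorem OBase.z_sq : B.z * B.z = 1 := by rw [OBase.z, ← map_mul, zx_sq, map_one]

theorem OBase.t_sq : B.t * B.t = 1 := by rw [OBase.t, ← map_mul, tx_sq, map_one]

theorem OBase.comm_z (u : UU) : B.ψ u * B.z = B.z * B.ψ u := by
  rw [OBase.z, ← map_mul, ← map_mul, zx_central]

/-- A square in the centraliser is inner. -/
theorem OBase.sq_mem {y : X} (hz : y * B.z = B.z * y) : y * y ∈ B.ψ.range := by
  rcases B.split y hz with ⟨u, rfl⟩ | ⟨s, u, rfl, hs, h2⟩
  · exact ⟨u * u, map_mul _ _ _⟩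
  · rw [show s * B.ψ u * (s * B.ψ u) = s * B.ψ u * s⁻¹ * (s * s) * B.ψ u by group, hs]
    rcases h2 with e | e <;> rw [e]
    · exact ⟨beta u * u, by rw [map_mul, mul_one]⟩
    · exact ⟨beta u * zx * u, by rw [map_mul, map_mul]⟩

/-- An element of odd order three in the centraliser is inner. -/
theorem OBase.cube_mem {y : X} (hz : y * B.z = B.z * y) (h : y * y * y = 1) : y ∈ B.ψ.range := by
  have := inv_mem (B.sq_mem hz)
  rwa [inv_eq_of_mul_eq_one_right h] at this

/-- An element of the centraliser acting as an outer element with the facts excluded is inner. -/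
theorem OBase.inner_of {y : X} (hz : y * B.z = B.z * y) (ht : y * B.t = B.t * y)
    (h : y * y * (y * y) = B.t ∨
      (y * B.ψ (kx (gi 0)) = B.ψ (kx (gi 0)) * y ∧ y * B.ψ (kx (gi 1)) = B.ψ (kx (gi 1)) * y)) :
    y ∈ B.ψ.range := by
  rcases B.split y hz with ⟨u, hu⟩ | ⟨s, u, rfl, hs, -⟩
  · exact ⟨u, hu⟩
  exfalso
  obtain ⟨g, hg⟩ := CfsgLib.StdM12.Link.split u
  obtain ⟨tM, htc, htl⟩ := exists_lo outer_ok.1 tx_spec
  obtain ⟨xM, hxc, hxl⟩ := exists_lo outer_ok.2.1 (gc_spec (a := 0) (by norm_num))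
  obtain ⟨yM, hyc, hyl⟩ := exists_lo outer_ok.2.2.1 (gc_spec (a := 1) (by norm_num))
  have hconj : ∀ x : ↥MM, u * lo x * u⁻¹ = lo g * lo x * (lo g)⁻¹ := by
    intro x
    rcases hg with rfl | rfl
    · rfl
    · rw [show zx * lo g * lo x * (zx * lo g)⁻¹ = zx * (lo g * lo x * (lo g)⁻¹) * zx⁻¹ by group, zx_central,
        mul_inv_cancel_right]
  have hact : ∀ x : ↥MM, s * B.ψ u * B.ψ (lo x) * (s * B.ψ u)⁻¹ = B.ψ (lo (oconj g x)) := fun x => by
    calc s * B.ψ u * B.ψ (lo x) * (s * B.ψ u)⁻¹ = s * B.ψ (u * lo x * u⁻¹) * s⁻¹ := by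
          rw [map_mul, map_mul, map_inv]; group
      _ = _ := by rw [hs, hconj, beta_conj]
  have hfix : ∀ {x : ↥MM}, s * B.ψ u * B.ψ (lo x) = B.ψ (lo x) * (s * B.ψ u) → oconj g x = x := fun {x} e =>
    lo_inj (B.inj ((hact x).symm.trans (mul_inv_eq_iff_eq_mul.mpr e)))
  have htM : oconj g tM = tM := hfix (by rw [← htl]; exact ht)
  refine outer_excl htc hxc hyc htM ?_
  rcases h with h4 | ⟨hx', hy'⟩
  · refine Or.inl fun x => lo_inj (B.inj ?_)
    rw [← hact, ← hact, ← hact, ← hact, map_mul lo, map_mul lo, map_inv lo, ← htl, map_mul, map_mul, map_inv]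
    generalize s * B.ψ u = y at h4 ⊢
    show _ = B.t * B.ψ (lo x) * B.t⁻¹
    rw [← h4]
    group
  · exact Or.inr ⟨hfix (by rw [← hxl]; exact hx'), hfix (by rw [← hyl]; exact hy')⟩

end CfsgLib.StdM12.Link
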