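import Cfsg.Agent.Lib.StdM12.Link.OutData

/-!
The outer candidates of a triangle are complete.
-/

set_option autoImplicit false
set_option maxRecDepth 100000
set_option maxHeartbeats 1000000

namespace CfsgLib.StdM12.Link

open Equiv Subgroup Cfsg CfsgGolay CfsgPC Co3M12 Co3M12.Eng StdM12.Model

attribute [local irreducible] Co3M12.Data.chain

/-- A code, its image under the outer automorphism and its code on the 24 points. -/
def betaB (e : ℕ × ℕ × ℕ) : Bool :=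
  (linkB e.1 e.2.2 && linkB e.2.1 (pcomp cI (pcomp e.2.2 cI))) ||
    (linkB (cp 14 zc e.1) e.2.2 && linkB (cp 14 zc e.2.1) (pcomp cI (pcomp e.2.2 cI)) &&
      Nat.beq (cp 14 zc (cp 14 zc e.2.1)) e.2.1)

theorem beta_spec {e : ℕ × ℕ × ℕ} (h : betaB e = true) {u : UU} (hu : Rp e.1 u) : Rp e.2.1 (beta u) := by
  simp only [betaB, Bool.or_eq_true, Bool.and_eq_true] at h
  rcases h with ⟨h1, h2⟩ | ⟨⟨h1, h2⟩, h3⟩
  · exact beta_code h1 h2 hu
  · have h4 := beta_code h1 h2 (rp_mul zc_spec hu)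
    rw [map_mul, beta_zx] at h4
    have h5 := rp_mul zc_spec h4
    rw [← mul_assoc, zx_sq, one_mul, Nat.eq_of_beq_eq_true h3] at h5
    exact h5

/-- An outer candidate. -/
def cand' (T : Tri) (j : ℕ) : ℕ :=
  cp 14 (cp 14 (Co3M12.Data.reps.getD pBeta (0, 0)).1 (kc j))
    (Co3M12.Data.reps.getD ((Loc.tTree.find (T.rhs (pos Co3M12.Data.tC))).getD 0) (0, 0)).2

/-- The image of a used position. -/
def bimg (bc : List (ℕ × ℕ × ℕ)) (c : ℕ) : ℕ :=
  match bc.find? (fun e => Nat.beq e.1 c) with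
  | some e => e.2.1
  | none => 0

/-- The images are right, and the candidates satisfying the equations are listed. -/
def outB (T : Tri) (bc : List (ℕ × ℕ × ℕ)) (sols : List OSol) : Bool :=
  bc.all betaB && (T.cs.all fun c => Nat.blt c 384 && bc.any fun e => Nat.beq e.1 (kc c)) &&
  ((List.range 384).all fun j =>
    !(T.cs.all fun c => Nat.beq (cp 14 (bimg bc (kc c)) (cand' T j)) (cp 14 (cand' T j) (T.rhs c))) ||
      sols.any fun s => Nat.beq (cand' T j) s.u.1)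

/-- The numbers of an outer solution are right. -/
def solB (s : OSol) : Bool :=
  betaB s.u && betaB s.g0 && betaB s.g1 && Nat.beq (cp 14 s.ui s.u.1) one14 &&
  Nat.beq (cp 14 s.u.1 (cp 14 (Co3M12.Data.gens.getD 0 0) s.ui)) s.g0.1 &&
  Nat.beq (cp 14 s.u.1 (cp 14 (Co3M12.Data.gens.getD 1 0) s.ui)) s.g1.1

theorem bimg_spec {bc : List (ℕ × ℕ × ℕ)} (hb : bc.all betaB = true) {c : ℕ}
    (ha : (bc.any fun e => Nat.beq e.1 c) = true) {u : UU} (hu : Rp c u) : Rp (bimg bc c) (beta u) := by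
  obtain ⟨e, he, hec⟩ := List.any_eq_true.mp ha
  obtain ⟨f, hf⟩ := Option.isSome_iff_exists.mp
    (List.find?_isSome.mpr ⟨e, he, hec⟩ : (bc.find? fun e => Nat.beq e.1 c).isSome = true)
  rw [bimg, hf]
  refine beta_spec (List.all_eq_true.mp hb f (List.mem_of_find?_eq_some hf)) ?_
  rw [Nat.eq_of_beq_eq_true (List.find?_some hf :)]
  exact hu

theorem tB_ok : Nat.beq tB.1 Co3M12.Data.tC = true ∧ betaB tB = true ∧
    Nat.beq (Loc.tConj.getD pBeta 0) tB.2.1 = true ∧ Nat.blt pBeta 495 = true := by decide +kernel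

theorem beta_tx : beta tx = rx pBeta * tx * (rx pBeta)⁻¹ := by
  obtain ⟨h1, h2, h3, h4⟩ := tB_ok
  have ht := beta_spec h2 (u := tx) (by rw [Nat.eq_of_beq_eq_true h1]; exact tx_spec)
  exact rp_eq ht (rx_spec (Nat.blt_eq.mp h4)).2.1 (by rw [Nat.eq_of_beq_eq_true h3]; exact Nat.beq_refl _)

variable {X : Type*} [Group X] {B : OBase X}

/-- An outer element satisfying the equations is one of the listed solutions. -/
theorem outer_cand {T : Tri} {bc : List (ℕ × ℕ × ℕ)} {sols : List OSol} (hT : triOB T = true)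
    (h : outB T bc sols = true) {s : X} {u : UU} (hs : ∀ v, s * B.ψ v * s⁻¹ = B.ψ (beta v))
    (heq : ∀ c ∈ T.cs, ∃ v, Rp (T.rhs c) v ∧ B.ψ (kx c) * (s * B.ψ u) = s * B.ψ u * B.ψ v) :
    ∃ o ∈ sols, Rp o.u.1 u := by
  obtain ⟨htc, etx, p, hp, hfind, hrp⟩ := triOB_t hT
  simp only [outB, Bool.and_eq_true] at h
  obtain ⟨⟨hb, hcs⟩, hcand⟩ := h
  have key : ∀ c ∈ T.cs, ∃ v, Rp (T.rhs c) v ∧ beta (kx c) * u = u * v := by
    intro c hc
    obtain ⟨v, hv, e⟩ := heq c hc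
    refine ⟨v, hv, B.inj (mul_left_cancel (a := s) ?_)⟩
    have h1 := hs (beta (kx c))
    rw [beta_sq] at h1
    calc s * B.ψ (beta (kx c) * u) = s * B.ψ (beta (kx c)) * s⁻¹ * (s * B.ψ u) := by rw [map_mul]; group
      _ = s * B.ψ u * B.ψ v := by rw [h1]; exact e
      _ = _ := by rw [map_mul, mul_assoc]
  obtain ⟨v, hv, ev⟩ := key _ htc
  rw [etx, beta_tx] at ev
  have ev2 : v = rx p * tx * (rx p)⁻¹ := rp_unique hv hrp
  obtain ⟨j, hj, ej⟩ := cent_tx (u := (rx pBeta)⁻¹ * u * rx p) (by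
    calc (rx pBeta)⁻¹ * u * rx p * tx = (rx pBeta)⁻¹ * (u * (rx p * tx * (rx p)⁻¹)) * rx p := by group
      _ = (rx pBeta)⁻¹ * (rx pBeta * tx * (rx pBeta)⁻¹ * u) * rx p := by rw [← ev2, ← ev]
      _ = _ := by group)
  have eu : u = rx pBeta * kx j * (rx p)⁻¹ := by rw [← ej]; group
  have ru : Rp (cand' T j) u := by
    rw [eu, cand', hfind, Option.getD_some]
    exact rp_mul (rp_mul (rx_spec (Nat.blt_eq.mp tB_ok.2.2.2)).1 (kc_spec hj).1) (rx_inv hp)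
  have hc2 := List.all_eq_true.mp hcand j (List.mem_range.mpr hj)
  simp only [Bool.or_eq_true, Bool.not_eq_true'] at hc2
  rcases hc2 with h4 | h4
  · exfalso
    rw [Bool.eq_false_iff] at h4
    refine h4 (List.all_eq_true.mpr fun c hc => ?_)
    obtain ⟨w, hw, ew⟩ := key c hc
    have h5 := List.all_eq_true.mp hcs c hc
    simp only [Bool.and_eq_true, Nat.blt_eq] at h5
    have hbc := bimg_spec hb h5.2 (kc_spec h5.1).1
    rw [canon_eq (canon_cp hbc ru) (canon_cp ru hw) (rp_mul hbc ru) (ew ▸ rp_mul ru hw)]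
    exact Nat.beq_refl _
  · obtain ⟨o, ho, hoo⟩ := List.any_eq_true.mp h4
    exact ⟨o, ho, (Nat.eq_of_beq_eq_true hoo) ▸ ru⟩

/-- The conjugates and the square of an outer solution. -/
theorem sol_spec {o : OSol} (h : solB o = true) {s : X} {u : UU} (hu : Rp o.u.1 u)
    (hs : ∀ v, s * B.ψ v * s⁻¹ = B.ψ (beta v)) (h2 : s * s = 1 ∨ s * s = B.z) :
    (∀ {g : UU}, Rp (Co3M12.Data.gens.getD 0 0) g →
      Cd B.ψ o.g0.2.1 (s * B.ψ u * B.ψ g * (s * B.ψ u)⁻¹)) ∧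
    (∀ {g : UU}, Rp (Co3M12.Data.gens.getD 1 0) g →
      Cd B.ψ o.g1.2.1 (s * B.ψ u * B.ψ g * (s * B.ψ u)⁻¹)) ∧
    (∀ {g : UU}, Rp (Co3M12.Data.gens.getD 3 0) g →
      Cd B.ψ (Co3M12.Data.gens.getD 3 0) (s * B.ψ u * B.ψ g * (s * B.ψ u)⁻¹)) ∧
    (Cd B.ψ (cp 14 o.u.2.1 o.u.1) (s * B.ψ u * (s * B.ψ u)) ∨
      Cd B.ψ (cp 14 zc (cp 14 o.u.2.1 o.u.1)) (s * B.ψ u * (s * B.ψ u))) := by
  simp only [solB, Bool.and_eq_true] at h
  obtain ⟨⟨⟨⟨⟨hbu, hb0⟩, hb1⟩, hi⟩, hg0⟩, hg1⟩ := h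
  have hui : Rp o.ui u⁻¹ := rp_inv hu hi
  have hconj : ∀ g : UU, s * B.ψ u * B.ψ g * (s * B.ψ u)⁻¹ = B.ψ (beta (u * (g * u⁻¹))) := fun g => by
    rw [← hs, map_mul, map_mul, map_inv]; group
  refine ⟨fun {g} hg => ⟨_, ?_, (hconj g).symm⟩, fun {g} hg => ⟨_, ?_, (hconj g).symm⟩, fun {g} hg => ⟨zx, ?_, ?_⟩, ?_⟩
  · exact beta_spec hb0 ((Nat.eq_of_beq_eq_true hg0) ▸ rp_mul hu (rp_mul hg hui))
  · exact beta_spec hb1 ((Nat.eq_of_beq_eq_true hg1) ▸ rp_mul hu (rp_mul hg hui))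
  · exact zx_spec
  · rw [hconj, rp_unique hg zx_spec, zx_central, mul_inv_cancel_left, beta_zx]
  · have hsu : s * B.ψ u * (s * B.ψ u) = B.ψ (beta u) * (s * s) * B.ψ u := by rw [← hs]; group
    have hq := rp_mul (beta_spec hbu hu) hu
    rcases h2 with e | e
    · exact Or.inl ⟨_, hq, by rw [hsu, e, mul_one, map_mul]⟩
    · refine Or.inr ⟨_, rp_mul zc_spec hq, ?_⟩
      rw [hsu, e, OBase.z, map_mul, map_mul, ← mul_assoc, ← map_mul, zx_central, map_mul]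

end CfsgLib.StdM12.Link
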