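import Cfsg.Agent.Lib.StdM12.Link.ORels

/-!
The configurations with an inner product at the closing triangle (the case distinction of `Co3M12.Dispatch`).
-/

set_option autoImplicit false
set_option maxRecDepth 100000
set_option maxHeartbeats 1000000

namespace CfsgLib.StdM12.Link

open Equiv Subgroup CfsgPC Co3M12 Co3M12.Eng

attribute [local irreducible] Co3M12.Data.chain

variable {G : Type*} [Group G] {B : OBase G}

theorem wr_split (M : OMove B) (hk : M.k = 0) (h24 : Rel5 B.ψ M.n ((tri 1).rel ((tri 1).es.getD 6 0))) :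
    Sys Wr.D B.ψ M.n := by
  obtain ⟨b, hb, hR⟩ := M.tri_rel (i := 0) (by decide) hk (M.no_outer0 hk)
  rw [show (tri 0).es.length = 8 from by rfl] at hb
  interval_cases b
  · exact (M.collapse A6x0.checked A6x0.goal (M.mkSys (D := A6x0.D) (allowed := [(tri 1).rel ((tri 1).es.getD 6 0), (tri 0).rel ((tri 0).es.getD 0 0)]) rfl (hk.symm ▸ act0_ok) (by decide +kernel) (pair_rel h24 hR))).elim
  · exact (M.collapse A6x1.checked A6x1.goal (M.mkSys (D := A6x1.D) (allowed := [(tri 1).rel ((tri 1).es.getD 6 0), (tri 0).rel ((tri 0).es.getD 1 0)]) rfl (hk.symm ▸ act0_ok) (by decide +kernel) (pair_rel h24 hR))).elim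
  · exact (M.collapse A6x2.checked A6x2.goal (M.mkSys (D := A6x2.D) (allowed := [(tri 1).rel ((tri 1).es.getD 6 0), (tri 0).rel ((tri 0).es.getD 2 0)]) rfl (hk.symm ▸ act0_ok) (by decide +kernel) (pair_rel h24 hR))).elim
  · exact (M.collapse A6x3.checked A6x3.goal (M.mkSys (D := A6x3.D) (allowed := [(tri 1).rel ((tri 1).es.getD 6 0), (tri 0).rel ((tri 0).es.getD 3 0)]) rfl (hk.symm ▸ act0_ok) (by decide +kernel) (pair_rel h24 hR))).elim
  · exact M.mkSys (allowed := [(tri 1).rel ((tri 1).es.getD 6 0), (tri 0).rel ((tri 0).es.getD 4 0)]) rfl (hk.symm ▸ act0_ok) (by decide +kernel) (pair_rel h24 hR)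
  · exact (M.collapse A6x5.checked A6x5.goal (M.mkSys (D := A6x5.D) (allowed := [(tri 1).rel ((tri 1).es.getD 6 0), (tri 0).rel ((tri 0).es.getD 5 0)]) rfl (hk.symm ▸ act0_ok) (by decide +kernel) (pair_rel h24 hR))).elim
  · exact (M.collapse A6x6.checked A6x6.goal (M.mkSys (D := A6x6.D) (allowed := [(tri 1).rel ((tri 1).es.getD 6 0), (tri 0).rel ((tri 0).es.getD 6 0)]) rfl (hk.symm ▸ act0_ok) (by decide +kernel) (pair_rel h24 hR))).elim
  · exact (M.collapse A6x7.checked A6x7.goal (M.mkSys (D := A6x7.D) (allowed := [(tri 1).rel ((tri 1).es.getD 6 0), (tri 0).rel ((tri 0).es.getD 7 0)]) rfl (hk.symm ▸ act0_ok) (by decide +kernel) (pair_rel h24 hR))).elim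

theorem coA_split (M : OMove B) (hk : M.k = 2) (h24 : Rel5 B.ψ M.n ((tri 4).rel ((tri 4).es.getD 2 0))) :
    Sys CoA.D B.ψ M.n := by
  obtain ⟨b, hb, hR⟩ := M.tri_rel (i := 3) (by decide) hk (M.no_outer2 hk)
  rw [show (tri 3).es.length = 8 from by rfl] at hb
  interval_cases b
  · exact (M.collapse B2x0.checked B2x0.goal (M.mkSys (D := B2x0.D) (allowed := [(tri 4).rel ((tri 4).es.getD 2 0), (tri 3).rel ((tri 3).es.getD 0 0)]) rfl (hk.symm ▸ act2_ok) (by decide +kernel) (pair_rel h24 hR))).elim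
  · exact (M.collapse B2x1.checked B2x1.goal (M.mkSys (D := B2x1.D) (allowed := [(tri 4).rel ((tri 4).es.getD 2 0), (tri 3).rel ((tri 3).es.getD 1 0)]) rfl (hk.symm ▸ act2_ok) (by decide +kernel) (pair_rel h24 hR))).elim
  · exact M.mkSys (allowed := [(tri 4).rel ((tri 4).es.getD 2 0), (tri 3).rel ((tri 3).es.getD 2 0)]) rfl (hk.symm ▸ act2_ok) (by decide +kernel) (pair_rel h24 hR)
  · exact (M.collapse B2x3.checked B2x3.goal (M.mkSys (D := B2x3.D) (allowed := [(tri 4).rel ((tri 4).es.getD 2 0), (tri 3).rel ((tri 3).es.getD 3 0)]) rfl (hk.symm ▸ act2_ok) (by decide +kernel) (pair_rel h24 hR))).elim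
  · exact (M.collapse B2x4.checked B2x4.goal (M.mkSys (D := B2x4.D) (allowed := [(tri 4).rel ((tri 4).es.getD 2 0), (tri 3).rel ((tri 3).es.getD 4 0)]) rfl (hk.symm ▸ act2_ok) (by decide +kernel) (pair_rel h24 hR))).elim
  · exact (M.collapse B2x5.checked B2x5.goal (M.mkSys (D := B2x5.D) (allowed := [(tri 4).rel ((tri 4).es.getD 2 0), (tri 3).rel ((tri 3).es.getD 5 0)]) rfl (hk.symm ▸ act2_ok) (by decide +kernel) (pair_rel h24 hR))).elim
  · exact (M.collapse B2x6.checked B2x6.goal (M.mkSys (D := B2x6.D) (allowed := [(tri 4).rel ((tri 4).es.getD 2 0), (tri 3).rel ((tri 3).es.getD 6 0)]) rfl (hk.symm ▸ act2_ok) (by decide +kernel) (pair_rel h24 hR))).elim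
  · exact (M.collapse B2x7.checked B2x7.goal (M.mkSys (D := B2x7.D) (allowed := [(tri 4).rel ((tri 4).es.getD 2 0), (tri 3).rel ((tri 3).es.getD 7 0)]) rfl (hk.symm ▸ act2_ok) (by decide +kernel) (pair_rel h24 hR))).elim

theorem coB_split (M : OMove B) (hk : M.k = 2) (h24 : Rel5 B.ψ M.n ((tri 4).rel ((tri 4).es.getD 8 0))) :
    Sys CoB.D B.ψ M.n := by
  obtain ⟨b, hb, hR⟩ := M.tri_rel (i := 3) (by decide) hk (M.no_outer2 hk)
  rw [show (tri 3).es.length = 8 from by rfl] at hb
  interval_cases b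
  · exact (M.collapse B8x0.checked B8x0.goal (M.mkSys (D := B8x0.D) (allowed := [(tri 4).rel ((tri 4).es.getD 8 0), (tri 3).rel ((tri 3).es.getD 0 0)]) rfl (hk.symm ▸ act2_ok) (by decide +kernel) (pair_rel h24 hR))).elim
  · exact (M.collapse B8x1.checked B8x1.goal (M.mkSys (D := B8x1.D) (allowed := [(tri 4).rel ((tri 4).es.getD 8 0), (tri 3).rel ((tri 3).es.getD 1 0)]) rfl (hk.symm ▸ act2_ok) (by decide +kernel) (pair_rel h24 hR))).elim
  · exact M.mkSys (allowed := [(tri 4).rel ((tri 4).es.getD 8 0), (tri 3).rel ((tri 3).es.getD 2 0)]) rfl (hk.symm ▸ act2_ok) (by decide +kernel) (pair_rel h24 hR)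
  · exact (M.collapse B8x3.checked B8x3.goal (M.mkSys (D := B8x3.D) (allowed := [(tri 4).rel ((tri 4).es.getD 8 0), (tri 3).rel ((tri 3).es.getD 3 0)]) rfl (hk.symm ▸ act2_ok) (by decide +kernel) (pair_rel h24 hR))).elim
  · exact (M.collapse B8x4.checked B8x4.goal (M.mkSys (D := B8x4.D) (allowed := [(tri 4).rel ((tri 4).es.getD 8 0), (tri 3).rel ((tri 3).es.getD 4 0)]) rfl (hk.symm ▸ act2_ok) (by decide +kernel) (pair_rel h24 hR))).elim
  · exact (M.collapse B8x5.checked B8x5.goal (M.mkSys (D := B8x5.D) (allowed := [(tri 4).rel ((tri 4).es.getD 8 0), (tri 3).rel ((tri 3).es.getD 5 0)]) rfl (hk.symm ▸ act2_ok) (by decide +kernel) (pair_rel h24 hR))).elim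
  · exact (M.collapse B8x6.checked B8x6.goal (M.mkSys (D := B8x6.D) (allowed := [(tri 4).rel ((tri 4).es.getD 8 0), (tri 3).rel ((tri 3).es.getD 6 0)]) rfl (hk.symm ▸ act2_ok) (by decide +kernel) (pair_rel h24 hR))).elim
  · exact (M.collapse B8x7.checked B8x7.goal (M.mkSys (D := B8x7.D) (allowed := [(tri 4).rel ((tri 4).es.getD 8 0), (tri 3).rel ((tri 3).es.getD 7 0)]) rfl (hk.symm ▸ act2_ok) (by decide +kernel) (pair_rel h24 hR))).elim

theorem cases0 (M : OMove B) (hk : M.k = 0) (hin : M.prod (tri 1) ∈ B.ψ.range) : Sys Wr.D B.ψ M.n := by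
  obtain ⟨i, hi, hR⟩ := M.tri_rel (i := 1) (by decide) hk hin
  rw [show (tri 1).es.length = 16 from by rfl] at hi
  interval_cases i
  · exact (M.collapse A0.checked A0.goal (M.mkSys (D := A0.D) (allowed := [(tri 1).rel ((tri 1).es.getD 0 0)]) rfl (hk.symm ▸ act0_ok) (by decide +kernel) (one_rel hR))).elim
  · exact (M.collapse A1.checked A1.goal (M.mkSys (D := A1.D) (allowed := [(tri 1).rel ((tri 1).es.getD 1 0)]) rfl (hk.symm ▸ act0_ok) (by decide +kernel) (one_rel hR))).elim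
  · exact (M.collapse A2.checked A2.goal (M.mkSys (D := A2.D) (allowed := [(tri 1).rel ((tri 1).es.getD 2 0)]) rfl (hk.symm ▸ act0_ok) (by decide +kernel) (one_rel hR))).elim
  · exact (M.collapse A3.checked A3.goal (M.mkSys (D := A3.D) (allowed := [(tri 1).rel ((tri 1).es.getD 3 0)]) rfl (hk.symm ▸ act0_ok) (by decide +kernel) (one_rel hR))).elim
  · exact (M.collapse A4.checked A4.goal (M.mkSys (D := A4.D) (allowed := [(tri 1).rel ((tri 1).es.getD 4 0)]) rfl (hk.symm ▸ act0_ok) (by decide +kernel) (one_rel hR))).elim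
  · exact (M.collapse A5.checked A5.goal (M.mkSys (D := A5.D) (allowed := [(tri 1).rel ((tri 1).es.getD 5 0)]) rfl (hk.symm ▸ act0_ok) (by decide +kernel) (one_rel hR))).elim
  · exact (wr_split M hk hR)
  · exact (M.collapse A7.checked A7.goal (M.mkSys (D := A7.D) (allowed := [(tri 1).rel ((tri 1).es.getD 7 0)]) rfl (hk.symm ▸ act0_ok) (by decide +kernel) (one_rel hR))).elim
  · exact (M.collapse A8.checked A8.goal (M.mkSys (D := A8.D) (allowed := [(tri 1).rel ((tri 1).es.getD 8 0)]) rfl (hk.symm ▸ act0_ok) (by decide +kernel) (one_rel hR))).elim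
  · exact (M.collapse A9.checked A9.goal (M.mkSys (D := A9.D) (allowed := [(tri 1).rel ((tri 1).es.getD 9 0)]) rfl (hk.symm ▸ act0_ok) (by decide +kernel) (one_rel hR))).elim
  · exact (M.collapse A10.checked A10.goal (M.mkSys (D := A10.D) (allowed := [(tri 1).rel ((tri 1).es.getD 10 0)]) rfl (hk.symm ▸ act0_ok) (by decide +kernel) (one_rel hR))).elim
  · exact (M.collapse A11.checked A11.goal (M.mkSys (D := A11.D) (allowed := [(tri 1).rel ((tri 1).es.getD 11 0)]) rfl (hk.symm ▸ act0_ok) (by decide +kernel) (one_rel hR))).elim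
  · exact (M.collapse A12.checked A12.goal (M.mkSys (D := A12.D) (allowed := [(tri 1).rel ((tri 1).es.getD 12 0)]) rfl (hk.symm ▸ act0_ok) (by decide +kernel) (one_rel hR))).elim
  · exact (M.collapse A13.checked A13.goal (M.mkSys (D := A13.D) (allowed := [(tri 1).rel ((tri 1).es.getD 13 0)]) rfl (hk.symm ▸ act0_ok) (by decide +kernel) (one_rel hR))).elim
  · exact (M.collapse A14.checked A14.goal (M.mkSys (D := A14.D) (allowed := [(tri 1).rel ((tri 1).es.getD 14 0)]) rfl (hk.symm ▸ act0_ok) (by decide +kernel) (one_rel hR))).elim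
  · exact (M.collapse A15.checked A15.goal (M.mkSys (D := A15.D) (allowed := [(tri 1).rel ((tri 1).es.getD 15 0)]) rfl (hk.symm ▸ act0_ok) (by decide +kernel) (one_rel hR))).elim

theorem cases2 (M : OMove B) (hk : M.k = 2) (hin : M.prod (tri 4) ∈ B.ψ.range) : Sys CoA.D B.ψ M.n ∨ Sys CoB.D B.ψ M.n := by
  obtain ⟨i, hi, hR⟩ := M.tri_rel (i := 4) (by decide) hk hin
  rw [show (tri 4).es.length = 16 from by rfl] at hi
  interval_cases i
  · exact (M.collapse B0.checked B0.goal (M.mkSys (D := B0.D) (allowed := [(tri 4).rel ((tri 4).es.getD 0 0)]) rfl (hk.symm ▸ act2_ok) (by decide +kernel) (one_rel hR))).elim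
  · exact (M.collapse B1.checked B1.goal (M.mkSys (D := B1.D) (allowed := [(tri 4).rel ((tri 4).es.getD 1 0)]) rfl (hk.symm ▸ act2_ok) (by decide +kernel) (one_rel hR))).elim
  · exact Or.inl (coA_split M hk hR)
  · exact (M.collapse B3.checked B3.goal (M.mkSys (D := B3.D) (allowed := [(tri 4).rel ((tri 4).es.getD 3 0)]) rfl (hk.symm ▸ act2_ok) (by decide +kernel) (one_rel hR))).elim
  · exact (M.collapse B4.checked B4.goal (M.mkSys (D := B4.D) (allowed := [(tri 4).rel ((tri 4).es.getD 4 0)]) rfl (hk.symm ▸ act2_ok) (by decide +kernel) (one_rel hR))).elim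
  · exact (M.collapse B5.checked B5.goal (M.mkSys (D := B5.D) (allowed := [(tri 4).rel ((tri 4).es.getD 5 0)]) rfl (hk.symm ▸ act2_ok) (by decide +kernel) (one_rel hR))).elim
  · exact (M.collapse B6.checked B6.goal (M.mkSys (D := B6.D) (allowed := [(tri 4).rel ((tri 4).es.getD 6 0)]) rfl (hk.symm ▸ act2_ok) (by decide +kernel) (one_rel hR))).elim
  · exact (M.collapse B7.checked B7.goal (M.mkSys (D := B7.D) (allowed := [(tri 4).rel ((tri 4).es.getD 7 0)]) rfl (hk.symm ▸ act2_ok) (by decide +kernel) (one_rel hR))).elim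
  · exact Or.inr (coB_split M hk hR)
  · exact (M.collapse B9.checked B9.goal (M.mkSys (D := B9.D) (allowed := [(tri 4).rel ((tri 4).es.getD 9 0)]) rfl (hk.symm ▸ act2_ok) (by decide +kernel) (one_rel hR))).elim
  · exact (M.collapse B10.checked B10.goal (M.mkSys (D := B10.D) (allowed := [(tri 4).rel ((tri 4).es.getD 10 0)]) rfl (hk.symm ▸ act2_ok) (by decide +kernel) (one_rel hR))).elim
  · exact (M.collapse B11.checked B11.goal (M.mkSys (D := B11.D) (allowed := [(tri 4).rel ((tri 4).es.getD 11 0)]) rfl (hk.symm ▸ act2_ok) (by decide +kernel) (one_rel hR))).elim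
  · exact (M.collapse B12.checked B12.goal (M.mkSys (D := B12.D) (allowed := [(tri 4).rel ((tri 4).es.getD 12 0)]) rfl (hk.symm ▸ act2_ok) (by decide +kernel) (one_rel hR))).elim
  · exact (M.collapse B13.checked B13.goal (M.mkSys (D := B13.D) (allowed := [(tri 4).rel ((tri 4).es.getD 13 0)]) rfl (hk.symm ▸ act2_ok) (by decide +kernel) (one_rel hR))).elim
  · exact (M.collapse B14.checked B14.goal (M.mkSys (D := B14.D) (allowed := [(tri 4).rel ((tri 4).es.getD 14 0)]) rfl (hk.symm ▸ act2_ok) (by decide +kernel) (one_rel hR))).elim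
  · exact (M.collapse B15.checked B15.goal (M.mkSys (D := B15.D) (allowed := [(tri 4).rel ((tri 4).es.getD 15 0)]) rfl (hk.symm ▸ act2_ok) (by decide +kernel) (one_rel hR))).elim

end CfsgLib.StdM12.Link
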