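import Cfsg.Agent.Lib.StdM12.Link.OBase

/-!
The fusing element in one of four normal forms, outer elements in the centraliser allowed
(the argument of `Co3M12.Normal`, blueprint/S1750.md, step 5).
-/

set_option autoImplicit false
set_option maxRecDepth 100000
set_option maxHeartbeats 1000000

namespace CfsgLib.StdM12.Link

open Equiv Subgroup Cfsg CfsgPC Co3M12 Co3M12.Eng

attribute [local irreducible] Co3M12.Data.chain

/-- An element of order three or a root of `t`. -/
def specB (i : ℕ) : Bool :=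
  Nat.beq (cp 14 (cp 14 (kc i) (kc i)) (kc i)) one14 ||
    Nat.beq (cp 14 (cp 14 (kc i) (kc i)) (cp 14 (kc i) (kc i))) Co3M12.Data.tC

theorem spec_ok : specB 5 = true ∧ specB 91 = true ∧ specB 2 = true ∧
    Nat.beq (gc 0) (cp 14 (kc 5) (kc 91)) = true ∧ Nat.beq (gc 1) (kc 2) = true := by decide +kernel

theorem inv_ok : ((List.range 4).all fun k => (List.range 3).all fun a =>
    Nat.beq (img k (pos (img k (gi a)))) (gc a)) = true := by decide +kernel

theorem gens_spec : specB 5 = true ∧ specB 91 = true ∧ specB 2 = true ∧ kx (gi 0) = kx 5 * kx 91 ∧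
    kx (gi 1) = kx 2 := by
  obtain ⟨h5, h91, h2, e0, e1⟩ := spec_ok
  exact ⟨h5, h91, h2, rp_eq (gc_spec (by norm_num)) (rp_mul (kc_spec (by norm_num)).1 (kc_spec (by norm_num)).1) e0,
    rp_eq (gc_spec (by norm_num)) (kc_spec (by norm_num)).1 e1⟩

variable {G : Type*} [Group G] {B : OBase G}

/-- Two codes name an element and its conjugate. -/
def OMoved (B : OBase G) (n : G) (x y : ℕ) : Prop :=
  ∃ u v, Rp x u ∧ Rp y v ∧ canonB x = true ∧ canonB y = true ∧ n * B.ψ u * n⁻¹ = B.ψ v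

theorem OMoved.one (n : G) : OMoved B n one14 one14 :=
  ⟨1, 1, rp_one, rp_one, Rp.canon_one, Rp.canon_one, by rw [map_one, mul_one, mul_inv_cancel]⟩

theorem OMoved.mul {n : G} {x y x' y' : ℕ} (h : OMoved B n x y) (h' : OMoved B n x' y') :
    OMoved B n (cp 14 x x') (cp 14 y y') := by
  obtain ⟨u, v, hu, hv, -, -, e⟩ := h
  obtain ⟨u', v', hu', hv', -, -, e'⟩ := h'
  refine ⟨u * u', v * v', rp_mul hu hu', rp_mul hv hv', canon_cp hu hu', canon_cp hv hv', ?_⟩
  rw [map_mul, map_mul, ← e, ← e']; group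

theorem OMoved.word {n : G} {a b c a' b' c' : ℕ} (ha : OMoved B n a a') (hb : OMoved B n b b') (hc : OMoved B n c c')
    (w : List ℕ) : OMoved B n (evw (cp 14) a b c w one14) (evw (cp 14) a' b' c' w one14) :=
  evw_rel (R := OMoved B n) (fun h h' => h.mul h') ha hb hc w _ _ (OMoved.one n)

theorem ty_t {c : ℕ} {u : UU} (hu : Rp c u) (h : Nat.beq (ty c) 1 = true) : IsConj B.t (B.ψ u) := by
  obtain ⟨r, hr⟩ := conj_tx ((tyv_cases _ _ _).2.1 h)
  rw [rp_unique hu hr]
  exact isConj_iff.mpr ⟨B.ψ r, by rw [map_mul, map_mul, map_inv]; rfl⟩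

theorem ty_z {c : ℕ} {u : UU} {n : G} (hn : n * B.z * n⁻¹ = B.z * B.t) (hu : Rp c u)
    (h : Nat.beq (ty c) 2 = true) : IsConj B.z (B.ψ u) := by
  have h2 := (tyv_cases _ _ _).2.2 h
  rw [Bool.or_eq_true] at h2
  rcases h2 with h3 | h4
  · rw [rp_eq hu zc_spec h3]
    exact IsConj.refl _
  · obtain ⟨r, hr⟩ := conj_tx h4
    have e : zx * u = r * tx * r⁻¹ := rp_unique (rp_mul zc_spec hu) hr
    have e2 : u = r * (zx * tx) * r⁻¹ := by
      calc u = zx * (zx * u) := by rw [← mul_assoc, zx_sq, one_mul]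
        _ = zx * (r * tx * r⁻¹) := by rw [e]
        _ = _ := by rw [← mul_assoc r zx tx, ← zx_central r]; group
    refine isConj_iff.mpr ⟨B.ψ r * n, ?_⟩
    rw [e2, map_mul, map_mul, map_inv, map_mul, ← OBase.z, ← OBase.t, ← hn]
    group

theorem OMoved.good {n : G} (hn : n * B.z * n⁻¹ = B.z * B.t) {x y : ℕ} (h : OMoved B n x y) :
    badB x y = false := by
  obtain ⟨u, v, hu, hv, cu, cv, e⟩ := h
  have hc : IsConj (B.ψ u) (B.ψ v) := isConj_iff.mpr ⟨n, e⟩
  have h0 : Nat.beq (ty x) 0 = Nat.beq (ty y) 0 := by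
    have key : u = 1 ↔ v = 1 := by
      constructor <;> intro h1
      · refine B.inj ?_
        rw [← e, h1, map_one, mul_one, mul_inv_cancel]
      · refine B.inj ?_
        rw [h1, map_one, conj_eq_one_iff] at e
        rw [e, map_one]
    rw [Bool.eq_iff_iff, ty_one hu cu, ty_one hv cv, key]
  rw [Bool.eq_false_iff]
  intro hb
  simp only [badB, h0, bne_self_eq_false, Bool.false_or, Bool.or_eq_true, Bool.and_eq_true] at hb
  rcases hb with ⟨h1, h2⟩ | ⟨h1, h2⟩
  · exact B.not_conj ((ty_z hn hv h2).trans (hc.symm.trans (ty_t hu h1).symm))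
  · exact B.not_conj ((ty_z hn hu h1).trans (hc.trans (ty_t hv h2).symm))

theorem candA_good {n : G} (hn : n * B.z * n⁻¹ = B.z * B.t) {p q : ℕ} (ha : OMoved B n (gc 0) p)
    (hb : OMoved B n (gc 1) q) (hc : OMoved B n (gc 2) (cp 14 zc Data.tC)) {w : List ℕ}
    (h : (w.all fun c => Nat.beq c 0) = true) : badW p one14 w = false := by
  rw [badW, evw_zero (cp 14) p one14 q _ w _ h]
  exact OMoved.good hn (OMoved.word ha hb hc w)

theorem candB_good {n : G} (hn : n * B.z * n⁻¹ = B.z * B.t) {p q : ℕ} (ha : OMoved B n (gc 0) p)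
    (hb : OMoved B n (gc 1) q) (hc : OMoved B n (gc 2) (cp 14 zc Data.tC)) {w : List ℕ}
    (h : (w.all fun c => Nat.beq c 1) = true) : badW one14 q w = false := by
  rw [badW, evw_one (cp 14) one14 p q _ w _ h]
  exact OMoved.good hn (OMoved.word ha hb hc w)

/-- A fusing element in normal form. -/
structure OMove (B : OBase G) where
  /-- the element -/
  n : G
  /-- the action -/
  k : ℕ
  hk : k < 4
  sq : n * n = 1
  conj : ∀ i < 384, n * B.ψ (kx i) * n⁻¹ = B.ψ (elt (img k i))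

/-- The action is determined by the three generators. -/
theorem conj_all {k : ℕ} (hk : k < 4) {n : G} (h : ∀ a < 3, n * B.ψ (kx (gi a)) * n⁻¹ = B.ψ (elt (img k (gi a)))) :
    ∀ i < 384, n * B.ψ (kx i) * n⁻¹ = B.ψ (elt (img k i)) := by
  have hh := List.all_eq_true.mp img_ok k (List.mem_range.mpr hk)
  simp only [Bool.and_eq_true] at hh
  intro i
  induction i using Nat.strong_induction_on with
  | _ i ih =>
    intro hi
    by_cases h0 : i = 0
    · subst h0
      rw [kx_zero, map_one, mul_one, mul_inv_cancel,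
        rp_eq (img_spec hk hi).1 rp_one hh.1.1, map_one]
    · obtain ⟨hp, hg, e⟩ := kx_step hi h0
      have h2 := List.all_eq_true.mp hh.2 i (List.mem_range.mpr hi)
      simp only [Bool.and_eq_true, Bool.or_eq_true] at h2
      have e2 : elt (img k i) = elt (img k (Loc.keys.getD i (0, 0, 0, 0)).2.2.1) *
          elt (img k (gi (Loc.keys.getD i (0, 0, 0, 0)).2.2.2)) := by
        rcases h2.1.1.2 with h' | h'
        · exact absurd (Nat.eq_of_beq_eq_true h') h0
        · exact rp_eq (img_spec hk hi).1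
            (rp_mul (img_spec hk (hp.trans hi)).1 (img_spec hk (gi_spec hg).1).1) h'
      rw [e, e2, map_mul, map_mul, ← ih _ hp (hp.trans hi), ← h _ hg]
      group

theorem OBase.exists_normal (B : OBase G) {n : G} (hz : n * B.z * n⁻¹ = B.z * B.t) (ht : n * B.t * n⁻¹ = B.t) :
    ∃ M : OMove B, ∃ c < 384, ∀ a < 3,
      n * B.ψ (kx (gi a)) * n⁻¹ = B.ψ (kx c) * B.ψ (elt (img M.k (gi a))) * (B.ψ (kx c))⁻¹ := by
  -- images of the generators lie in the common part
  have hcom : ∀ i < 384, n * B.ψ (kx i) * n⁻¹ * B.z = B.z * (n * B.ψ (kx i) * n⁻¹) ∧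
      n * B.ψ (kx i) * n⁻¹ * B.t = B.t * (n * B.ψ (kx i) * n⁻¹) := by
    intro i hi
    set g := n * B.ψ (kx i) * n⁻¹ with hg
    have hzt : g * (B.z * B.t) = (B.z * B.t) * g := by
      rw [hg, ← hz]
      calc n * B.ψ (kx i) * n⁻¹ * (n * B.z * n⁻¹) = n * (B.ψ (kx i) * B.z) * n⁻¹ := by group
        _ = _ := by rw [B.comm_z]; group
    have htc : B.ψ (kx i) * B.t = B.t * B.ψ (kx i) := by rw [OBase.t, ← map_mul, ← map_mul, kx_comm hi]
    have htt : g * B.t = B.t * g := by
      calc g * B.t = n * B.ψ (kx i) * n⁻¹ * (n * B.t * n⁻¹) := by rw [ht]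
        _ = n * (B.ψ (kx i) * B.t) * n⁻¹ := by group
        _ = n * (B.t * B.ψ (kx i)) * n⁻¹ := by rw [htc]
        _ = n * B.t * n⁻¹ * g := by rw [hg]; group
        _ = _ := by rw [ht]
    refine ⟨?_, htt⟩
    calc g * B.z = g * (B.z * B.t) * B.t := by rw [mul_assoc g, mul_assoc B.z, B.t_sq, mul_one]
      _ = B.z * B.t * (g * B.t) := by rw [hzt, mul_assoc]
      _ = B.z * (B.t * B.t) * g := by rw [htt]; group
      _ = _ := by rw [B.t_sq, mul_one]
  have hspec : ∀ i < 384, specB i = true → n * B.ψ (kx i) * n⁻¹ ∈ B.ψ.range := by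
    intro i hi h
    obtain ⟨c1, c2⟩ := hcom i hi
    have hk := (kc_spec hi).1
    simp only [specB, Bool.or_eq_true] at h
    rcases h with h | h
    · refine B.cube_mem c1 ?_
      have e : kx i * kx i * kx i = 1 := rp_eq (rp_mul (rp_mul hk hk) hk) rp_one h
      calc _ = n * (B.ψ (kx i) * B.ψ (kx i) * B.ψ (kx i)) * n⁻¹ := by group
        _ = _ := by rw [← map_mul, ← map_mul, e, map_one, mul_one, mul_inv_cancel]
    · refine B.inner_of c1 c2 (Or.inl ?_)
      have e : kx i * kx i * (kx i * kx i) = tx :=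
        rp_eq (rp_mul (rp_mul hk hk) (rp_mul hk hk)) tx_spec h
      calc _ = n * (B.ψ (kx i) * B.ψ (kx i) * (B.ψ (kx i) * B.ψ (kx i))) * n⁻¹ := by group
        _ = _ := by rw [← map_mul, ← map_mul, e]; exact ht
  have hgen3 : ∀ a < 3, n * B.ψ (kx (gi a)) * n⁻¹ ∈ B.ψ.range := by
    intro a ha
    obtain ⟨h5, h91, h2, e0, e1⟩ := gens_spec
    interval_cases a
    · rw [e0, map_mul, show n * (B.ψ (kx 5) * B.ψ (kx 91)) * n⁻¹ =
        n * B.ψ (kx 5) * n⁻¹ * (n * B.ψ (kx 91) * n⁻¹) by group]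
      exact mul_mem (hspec 5 (by norm_num) h5) (hspec 91 (by norm_num) h91)
    · rw [e1]; exact hspec 2 (by norm_num) h2
    · rw [kx_gi_two, ← OBase.z, hz]; exact ⟨zx * tx, map_mul _ _ _⟩
  have hin : ∀ i < 384, n * B.ψ (kx i) * n⁻¹ ∈ B.ψ.range := by
    intro i
    induction i using Nat.strong_induction_on with
    | _ i ih =>
      intro hi
      by_cases h0 : i = 0
      · rw [h0, kx_zero, map_one, mul_one, mul_inv_cancel]; exact one_mem _
      · obtain ⟨hp, hg, e⟩ := kx_step hi h0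
        rw [e, map_mul, show ∀ a b : G, n * (a * b) * n⁻¹ = n * a * n⁻¹ * (n * b * n⁻¹) from fun a b => by group]
        exact mul_mem (ih _ hp (hp.trans hi)) (hgen3 _ hg)
  have hcl : ∀ i < 384, ∃ j < 384, n * B.ψ (kx i) * n⁻¹ = B.ψ (kx j) := by
    intro i hi
    obtain ⟨u, hu⟩ := hin i hi
    obtain ⟨j, hj, rfl⟩ := cent_tx (B.inj (by rw [map_mul, map_mul, hu]; exact (hcom i hi).2) : u * tx = tx * u)
    exact ⟨j, hj, hu.symm⟩
  obtain ⟨p, hp, hpe⟩ := hcl _ (gi_spec (a := 0) (by norm_num)).1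
  obtain ⟨q, hq, hqe⟩ := hcl _ (gi_spec (a := 1) (by norm_num)).1
  have mk : ∀ {a i : ℕ}, a < 3 → i < 384 → n * B.ψ (kx (gi a)) * n⁻¹ = B.ψ (kx i) → OMoved B n (gc a) (kc i) :=
    fun {a i} ha hi e => ⟨_, _, gc_spec ha, (kc_spec hi).1,
      (gi_spec ha).2 ▸ (kc_spec (gi_spec ha).1).2.1, (kc_spec hi).2.1, e⟩
  have mA := mk (by norm_num) hp hpe
  have mB := mk (by norm_num) hq hqe
  have mC : OMoved B n (gc 2) (cp 14 zc Data.tC) :=
    ⟨zx, zx * tx, kx_gi_two ▸ gc_spec (by norm_num), rp_mul zc_spec tx_spec,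
      (gi_spec (a := 2) (by norm_num)).2 ▸ (kc_spec (gi_spec (a := 2) (by norm_num)).1).2.1,
      canon_cp zc_spec tx_spec, by rw [map_mul]; exact hz⟩
  have hA : Loc.candA.contains p = true := by
    have h := List.all_eq_true.mp candA_ok p (List.mem_range.mpr hp)
    simp only [Bool.or_eq_true] at h
    rcases h with ((h | h) | h) | h
    · exact h
    all_goals
      exact absurd h (Bool.eq_false_iff.mp (candA_good hz mA mB mC (by rfl)))
  have hB : Loc.candB.contains q = true := by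
    have h := List.all_eq_true.mp candB_ok q (List.mem_range.mpr hq)
    simp only [Bool.or_eq_true] at h
    rcases h with (h | h) | h
    · exact h
    all_goals
      exact absurd h (Bool.eq_false_iff.mp (candB_good hz mA mB mC (by rfl)))
  obtain ⟨x, hx, hxe⟩ := getD_mem_of hA
  obtain ⟨y, hy, hye⟩ := getD_mem_of hB
  have hrow := List.all_eq_true.mp pair_ok x (List.mem_range.mpr hx)
  simp only [rowB, Bool.and_eq_true, Nat.ble_eq] at hrow
  have hlen : y < (Loc.candB.zip (Loc.pairTab.drop (x * Loc.candB.length))).length := by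
    rw [List.length_zip]; omega
  have hpair := List.all_eq_true.mp hrow.2 _ (List.getElem_mem hlen)
  rw [List.getElem_zip] at hpair
  simp only [hxe, show Loc.candB[y]'hy = q by rw [← List.getD_eq_getElem _ 0 hy, hye]] at hpair
  generalize (Loc.pairTab.drop (x * Loc.candB.length))[y]'(by omega) = e at hpair
  unfold pairB at hpair
  cases he : Nat.blt e 10000
  · rw [he] at hpair
    simp only [cond_false, Bool.and_eq_true, badW] at hpair
    have hgood := OMoved.good hz (OMoved.word mA mB mC (Loc.words.getD (e - 10000) []))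
    rw [hgood] at hpair
    exact absurd hpair.2 Bool.false_ne_true
  rw [he] at hpair
  simp only [cond_true, Bool.and_eq_true, Nat.blt_eq] at hpair
  obtain ⟨⟨hc, e0⟩, e1⟩ := hpair
  have hk : e % 4 < 4 := Nat.mod_lt _ (by norm_num)
  set k := e % 4
  set c := kx (e / 4)
  set n' := (B.ψ c)⁻¹ * n with hn'
  have hcz : (B.ψ c)⁻¹ * (B.z * B.t) * B.ψ c = B.z * B.t := by
    rw [OBase.z, OBase.t, ← map_mul, mul_assoc, ← map_mul, mul_assoc, kx_comm hc |>.symm, ← mul_assoc, zx_central,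
      mul_assoc, map_mul, inv_mul_cancel_left]
  have hh := List.all_eq_true.mp img_ok k (List.mem_range.mpr hk)
  simp only [Bool.and_eq_true] at hh
  have hgen : ∀ a < 3, n' * B.ψ (kx (gi a)) * n'⁻¹ = B.ψ (elt (img k (gi a))) := by
    intro a ha
    have step : n' * B.ψ (kx (gi a)) * n'⁻¹ = (B.ψ c)⁻¹ * (n * B.ψ (kx (gi a)) * n⁻¹) * B.ψ c := by
      rw [hn']; group
    have hs := fun {i : ℕ} (hi : i < 384) {a' : ℕ} (ha' : a' < 3)
        (h : Nat.beq (cp 14 (kc (e / 4)) (cp 14 (img k (gi a')) (kd (e / 4)))) (kc i) = true) =>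
      (rp_eq (rp_mul (kc_spec hc).1 (rp_mul (img_spec hk (gi_spec ha').1).1 (kd_spec hc))) (kc_spec hi).1 h :
        c * (elt (img k (gi a')) * c⁻¹) = kx i)
    rw [step]
    interval_cases a
    · rw [hpe, ← hs hp (a' := 0) (by norm_num) e0, map_mul, map_mul, map_inv]; group
    · rw [hqe, ← hs hq (a' := 1) (by norm_num) e1, map_mul, map_mul, map_inv]; group
    · rw [kx_gi_two, ← OBase.z, hz, hcz, OBase.z, OBase.t, ← map_mul]
      congr 1
      exact (rp_eq (img_spec hk (gi_spec (a := 2) (by norm_num)).1).1 (rp_mul zc_spec tx_spec) hh.1.2).symm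
  have hcon := conj_all hk hgen
  -- the square
  have hzn : n' * B.z * n'⁻¹ = B.z * B.t := by
    have := hgen 2 (by norm_num)
    rwa [kx_gi_two, rp_eq (img_spec hk (gi_spec (a := 2) (by norm_num)).1).1 (rp_mul zc_spec tx_spec) hh.1.2,
      map_mul] at this
  have htn : n' * B.t * n'⁻¹ = B.t := by
    rw [hn']
    calc (B.ψ c)⁻¹ * n * B.t * ((B.ψ c)⁻¹ * n)⁻¹ = (B.ψ c)⁻¹ * (n * B.t * n⁻¹) * B.ψ c := by group
      _ = (B.ψ c)⁻¹ * (B.t * B.ψ c) := by rw [ht, mul_assoc]
      _ = _ := by rw [OBase.t, ← map_mul, ← kx_comm hc, map_mul, inv_mul_cancel_left]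
  have h2z : n' * n' * B.z * (n' * n')⁻¹ = B.z := by
    calc n' * n' * B.z * (n' * n')⁻¹ = n' * (n' * B.z * n'⁻¹) * n'⁻¹ := by group
      _ = n' * (B.z * B.t) * n'⁻¹ := by rw [hzn]
      _ = n' * B.z * n'⁻¹ * (n' * B.t * n'⁻¹) := by group
      _ = _ := by rw [hzn, htn, mul_assoc, B.t_sq, mul_one]
  have h2t : n' * n' * B.t * (n' * n')⁻¹ = B.t := by
    calc n' * n' * B.t * (n' * n')⁻¹ = n' * (n' * B.t * n'⁻¹) * n'⁻¹ := by group
      _ = _ := by rw [htn, htn]
  have h2g : ∀ a < 3, n' * n' * B.ψ (kx (gi a)) = B.ψ (kx (gi a)) * (n' * n') := by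
    intro a ha
    obtain ⟨-, hj, hje⟩ := img_spec hk (gi_spec ha).1
    have e : elt (img k (pos (img k (gi a)))) = kx (gi a) := by
      have h3 := List.all_eq_true.mp inv_ok k (List.mem_range.mpr hk)
      exact rp_eq (img_spec hk hj).1 (gc_spec ha) (List.all_eq_true.mp h3 a (List.mem_range.mpr ha))
    refine mul_inv_eq_iff_eq_mul.mp ?_
    rw [show n' * n' * B.ψ (kx (gi a)) * (n' * n')⁻¹ = n' * (n' * B.ψ (kx (gi a)) * n'⁻¹) * n'⁻¹ by group,
      hgen a ha, hje, hcon _ hj, e]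
  obtain ⟨v, hv⟩ := B.inner_of (y := n' * n') (mul_inv_eq_iff_eq_mul.mp h2z) (mul_inv_eq_iff_eq_mul.mp h2t)
    (Or.inr ⟨h2g 0 (by norm_num), h2g 1 (by norm_num)⟩)
  have hvt : v * tx = tx * v := B.inj (by
    rw [map_mul, map_mul, hv, ← OBase.t]
    refine mul_inv_eq_iff_eq_mul.mp ?_
    calc n' * n' * B.t * (n' * n')⁻¹ = n' * (n' * B.t * n'⁻¹) * n'⁻¹ := by group
      _ = _ := by rw [htn, htn])
  obtain ⟨i, hi, rfl⟩ := cent_tx hvt
  have hfix : kx i = elt (img k i) := B.inj (by rw [← hcon i hi, hv]; group)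
  have hii : ∀ a < 3, kx i * kx (gi a) * (kx i)⁻¹ = elt (img k (pos (img k (gi a)))) := by
    intro a ha
    obtain ⟨-, hj, hje⟩ := img_spec hk (gi_spec ha).1
    refine B.inj ?_
    rw [← hcon _ hj, ← hje, ← hgen a ha, map_mul, map_mul, map_inv, hv]
    group
  have hsq := List.all_eq_true.mp (List.all_eq_true.mp square_ok k (List.mem_range.mpr hk)) i (List.mem_range.mpr hi)
  simp only [Bool.or_eq_true] at hsq
  have hcan : ∀ {x : ℕ}, x < 384 → canonB (img k x) = true := fun {x} hx => by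
    obtain ⟨-, hj, -⟩ := img_spec hk hx
    have h2 := List.all_eq_true.mp hh.2 x (List.mem_range.mpr hx)
    simp only [Bool.and_eq_true] at h2
    rw [← Nat.eq_of_beq_eq_true h2.2]
    exact (kc_spec hj).2.1
  have hnat : ∀ {x y : ℕ} {u v : UU}, Rp x u → Rp y v → canonB x = true → canonB y = true → u = v →
      Nat.beq x y = true := fun hu hv hcx hcy e => by
    rw [canon_eq hcx hcy hu (e ▸ hv)]; exact Nat.beq_refl _
  have hrel : ∀ a < 3, n * B.ψ (kx (gi a)) * n⁻¹ = B.ψ c * B.ψ (elt (img k (gi a))) * (B.ψ c)⁻¹ := fun a ha => by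
    rw [← hgen a ha, hn']
    group
  rcases hsq with (h | h) | h
  · exfalso
    rw [Bool.not_eq_true', Bool.eq_false_iff] at h
    refine h ?_
    simp only [Bool.and_eq_true]
    refine ⟨⟨hnat (img_spec hk hi).1 (kc_spec hi).1 (hcan hi) (kc_spec hi).2.1 hfix.symm, ?_⟩, ?_⟩
    all_goals
      refine hnat (rp_mul (kc_spec hi).1 (rp_mul (gc_spec (by norm_num)) (kd_spec hi)))
        (img_spec hk (img_spec hk (gi_spec (by norm_num)).1).2.1).1
        (canon_cp (kc_spec hi).1 (rp_mul (gc_spec (by norm_num)) (kd_spec hi)))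
        (hcan (img_spec hk (gi_spec (by norm_num)).1).2.1) ?_
      rw [← mul_assoc]
      exact hii _ (by norm_num)
  · refine ⟨⟨n', k, hk, ?_, hcon⟩, e / 4, hc, hrel⟩
    rw [← hv, show kx i = 1 from rp_eq (kc_spec hi).1 rp_one h, map_one]
  · refine ⟨⟨n' * B.z, k, hk, ?_, fun j hj => ?_⟩, e / 4, hc, hrel⟩
    · have e2 : n' * n' = B.t := by rw [← hv, show kx i = tx from rp_eq (kc_spec hi).1 tx_spec h]; rfl
      calc n' * B.z * (n' * B.z) = n' * B.z * n'⁻¹ * (n' * n') * B.z := by group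
        _ = B.z * B.t * B.t * B.z := by rw [hzn, e2]
        _ = _ := by rw [mul_assoc B.z, B.t_sq, mul_one, B.z_sq]
    · rw [← hcon j hj]
      calc n' * B.z * B.ψ (kx j) * (n' * B.z)⁻¹ = n' * (B.z * B.ψ (kx j)) * B.z⁻¹ * n'⁻¹ := by group
        _ = _ := by rw [← B.comm_z]; group

end CfsgLib.StdM12.Link
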