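import Cfsg.Agent.Lib.StdM12.Link.OInner

/-!
The relations of the engine from an outer product at the closing triangle.
-/

set_option autoImplicit false
set_option maxRecDepth 100000
set_option maxHeartbeats 1000000

namespace CfsgLib.StdM12.Link

open Equiv Subgroup CfsgPC Co3M12 Co3M12.Eng

attribute [local irreducible] Co3M12.Data.chain

/-- The five steps of a conjugation by the product. -/
def conjRel (T : Tri) (g gi φ : ℕ) : Eng.Rel := ([(T.l, T.li), (T.m, T.mi), (g, gi), (T.mi, T.m), (T.li, T.l)], φ)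

/-- The relations of an outer solution. -/
def relsE (T : Tri) (o : OSol) : List Eng.Rel :=
  [conjRel T (Co3M12.Data.gens.getD 0 0) (Co3M12.Data.invs.getD 0 0) o.g0.2.1,
   conjRel T (Co3M12.Data.gens.getD 1 0) (Co3M12.Data.invs.getD 1 0) o.g1.2.1,
   conjRel T (Co3M12.Data.gens.getD 3 0) (Co3M12.Data.invs.getD 3 0) (Co3M12.Data.gens.getD 3 0)]

/-- The relation of the square. -/
def relQ (T : Tri) (q : ℕ) : Eng.Rel := ([(T.l, T.li), (cp 14 T.m T.l, cp 14 T.li T.mi), (T.m, T.mi)], q)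

theorem relE_ok : (sols306_0.all fun o => decide (Eng.Cand.relE0.getD o.r [] = relsE tri306_0 o ∧ o.r < 8 ∧
      (o.r = 4 → Eng.Cand.relSq.getD 0 ([], 0) = relQ tri306_0 (cp 14 o.u.2.1 o.u.1) ∧
        Eng.Cand.relSq.getD 1 ([], 0) = relQ tri306_0 (cp 14 zc (cp 14 o.u.2.1 o.u.1))))) = true ∧
    (sols306_2.all fun o => decide (Eng.Cand.relE2.getD o.r [] = relsE tri306_2 o ∧ o.r < 8)) = true ∧
    (List.range 8).all (fun j => decide
      (Eng.Cand.relR0.getD j ([], 0) = ([(tri102_0.l, tri102_0.li), (tri102_0.m, tri102_0.mi)], tri102_0.es.getD j 0))) = true ∧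
    tri102_0.es.length = 8 := by decide +kernel

/-- The two triangles at 306 differ by elements of the common part. -/
def convB (T' T : Tri) (i j : ℕ) : Bool :=
  Nat.blt i 384 && Nat.blt j 384 && Nat.beq (cp 14 (kc i) T.l) T'.l && Nat.beq (cp 14 T.m (kc j)) T'.m

theorem conv_ok : convB (tri 1) tri306_0 156 217 = true ∧ convB (tri 4) tri306_2 156 326 = true := by
  decide +kernel

variable {G : Type*} [Group G] {B : OBase G}

theorem OMove.prod_conv (M : OMove B) {T' T : Tri} {i j : ℕ} (h : convB T' T i j = true) (hl : Rp T.l (elt T.l))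
    (hm : Rp T.m (elt T.m)) (hin : M.prod T ∈ B.ψ.range) : M.prod T' ∈ B.ψ.range := by
  simp only [convB, Bool.and_eq_true, Nat.blt_eq] at h
  obtain ⟨⟨⟨hi, hj⟩, e1⟩, e2⟩ := h
  have el : elt T'.l = kx i * elt T.l :=
    rp_elt ((Nat.eq_of_beq_eq_true e1) ▸ rp_mul (kc_spec hi).1 hl)
  have em : elt T'.m = elt T.m * kx j :=
    rp_elt ((Nat.eq_of_beq_eq_true e2) ▸ rp_mul hm (kc_spec hj).1)
  have h1 : M.prod T' = B.ψ (elt (img M.k i)) * M.prod T * B.ψ (elt (img M.k j)) := by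
    rw [OMove.prod, OMove.prod, el, em, map_mul, map_mul]
    calc M.n * (B.ψ (kx i) * B.ψ (elt T.l)) * M.n * (B.ψ (elt T.m) * B.ψ (kx j)) * M.n
        = (M.n * B.ψ (kx i)) * B.ψ (elt T.l) * M.n * B.ψ (elt T.m) * (B.ψ (kx j) * M.n) := by group
      _ = _ := by rw [(M.push hi).2, (M.push hj).1]; group
  rw [h1]
  exact mul_mem (mul_mem ⟨_, rfl⟩ hin) ⟨_, rfl⟩

/-- The conjugation relation. -/
theorem OMove.conj_rel (M : OMove B) {T : Tri} (hT : triOB T = true) (hk : M.k = T.k) {g gi φ : ℕ} {u : UU}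
    (hg : Rp g u) (hgi : Rp gi u⁻¹) (h : Cd B.ψ φ (M.prod T * B.ψ u * (M.prod T)⁻¹)) :
    Eng.RelOK B.ψ M.n (conjRel T g gi φ) := by
  obtain ⟨hl, hm, hli, hmi, -, -⟩ := M.prod_spec hT hk
  refine ⟨fun c => [B.ψ (elt T.l), B.ψ (elt T.m), B.ψ u, (B.ψ (elt T.m))⁻¹, (B.ψ (elt T.l))⁻¹].getD c 1,
    fun c hc => ?_, ?_⟩
  · simp only [conjRel, List.length_cons, List.length_nil, Nat.reduceAdd] at hc
    interval_cases c <;> simp only [conjRel, List.getD_cons_zero, List.getD_cons_succ, inv_inv]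
    · exact ⟨⟨_, hl, rfl⟩, ⟨_, hli, map_inv _ _⟩⟩
    · exact ⟨⟨_, hm, rfl⟩, ⟨_, hmi, map_inv _ _⟩⟩
    · exact ⟨⟨_, hg, rfl⟩, ⟨_, hgi, map_inv _ _⟩⟩
    · exact ⟨⟨_, hmi, map_inv _ _⟩, ⟨_, hm, rfl⟩⟩
    · exact ⟨⟨_, hli, map_inv _ _⟩, ⟨_, hl, rfl⟩⟩
  · have e : M.prod T * B.ψ u * (M.prod T)⁻¹ = 1 * M.n * B.ψ (elt T.l) * M.n * B.ψ (elt T.m) * M.n * B.ψ u *
        M.n * (B.ψ (elt T.m))⁻¹ * M.n * (B.ψ (elt T.l))⁻¹ * M.n := by
      simp only [OMove.prod, mul_inv_rev, M.inv_n, one_mul, mul_assoc]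
    rw [e] at h
    exact h

/-- The relation of the square. -/
theorem OMove.sq_rel (M : OMove B) {T : Tri} (hT : triOB T = true) (hk : M.k = T.k) {q : ℕ}
    (h : Cd B.ψ q (M.prod T * M.prod T)) : Eng.RelOK B.ψ M.n (relQ T q) := by
  obtain ⟨hl, hm, hli, hmi, -, -⟩ := M.prod_spec hT hk
  refine ⟨fun c => [B.ψ (elt T.l), B.ψ (elt T.m) * B.ψ (elt T.l), B.ψ (elt T.m)].getD c 1, fun c hc => ?_, ?_⟩
  · simp only [relQ, List.length_cons, List.length_nil, Nat.reduceAdd] at hc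
    interval_cases c <;> simp only [relQ, List.getD_cons_zero, List.getD_cons_succ]
    · exact ⟨⟨_, hl, rfl⟩, ⟨_, hli, map_inv _ _⟩⟩
    · exact ⟨⟨_, rp_mul hm hl, map_mul _ _ _⟩, ⟨_, rp_mul hli hmi, by rw [← mul_inv_rev, map_inv, map_mul]⟩⟩
    · exact ⟨⟨_, hm, rfl⟩, ⟨_, hmi, map_inv _ _⟩⟩
  · have e : M.prod T * M.prod T = 1 * M.n * B.ψ (elt T.l) * M.n * (B.ψ (elt T.m) * B.ψ (elt T.l)) * M.n *
        B.ψ (elt T.m) * M.n := by
      rw [OMove.prod]
      calc _ = M.n * B.ψ (elt T.l) * M.n * B.ψ (elt T.m) * (M.n * M.n) * B.ψ (elt T.l) * M.n * B.ψ (elt T.m) * M.n := by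
            group
        _ = _ := by rw [M.sq]; group
    rw [e] at h
    exact h

theorem gen_rp (i : ℕ) (hi : i < 4) : ∃ u : UU, Rp (Co3M12.Data.gens.getD i 0) u ∧
    Rp (Co3M12.Data.invs.getD i 0) u⁻¹ := by
  have hm : Co3M12.Data.gens.getD i 0 ∈ Co3M12.Data.gens := by
    rw [List.getD_eq_getElem _ _ (data_checks.2.2.2.2.2.symm ▸ hi)]
    exact List.getElem_mem _
  have hr := elt_spec (List.all_eq_true.mp gens_mem _ hm)
  exact ⟨_, hr, valid_inv hi hr⟩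

/-- The three conjugation relations of an outer solution. -/
theorem OMove.relsE_ok (M : OMove B) {T : Tri} (hT : triOB T = true) (hk : M.k = T.k) {o : OSol}
    (ho : solB o = true) {s : G} {u : UU} (hu : Rp o.u.1 u) (hs : ∀ v, s * B.ψ v * s⁻¹ = B.ψ (beta v))
    (h2 : s * s = 1 ∨ s * s = B.z) (he : M.prod T = s * B.ψ u) :
    (∀ R ∈ relsE T o, Eng.RelOK B.ψ M.n R) ∧ (Eng.RelOK B.ψ M.n (relQ T (cp 14 o.u.2.1 o.u.1)) ∨
      Eng.RelOK B.ψ M.n (relQ T (cp 14 zc (cp 14 o.u.2.1 o.u.1)))) := by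
  obtain ⟨h0, h1, h3, h4⟩ := sol_spec ho hu hs h2
  rw [← he] at h4
  refine ⟨fun R hR => ?_, h4.imp (M.sq_rel hT hk) (M.sq_rel hT hk)⟩
  simp only [relsE, List.mem_cons, List.not_mem_nil, or_false] at hR
  rcases hR with rfl | rfl | rfl
  · obtain ⟨g, hg, hgi⟩ := gen_rp 0 (by norm_num)
    exact M.conj_rel hT hk hg hgi (he ▸ h0 hg)
  · obtain ⟨g, hg, hgi⟩ := gen_rp 1 (by norm_num)
    exact M.conj_rel hT hk hg hgi (he ▸ h1 hg)
  · obtain ⟨g, hg, hgi⟩ := gen_rp 3 (by norm_num)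
    exact M.conj_rel hT hk hg hgi (he ▸ h3 hg)

/-- The inner product at 102 gives one of the eight relations. -/
theorem OMove.relR (M : OMove B) (hk : M.k = 0) :
    ∃ j < 8, Eng.RelOK B.ψ M.n (Eng.Cand.relR0.getD j ([], 0)) := by
  have hk' : M.k = tri102_0.k := hk.trans (by rfl)
  obtain ⟨-, -, -, -, hT, -, -, -, -, -, hn, -⟩ := data_ok
  obtain ⟨j, hj, A, A', h1, h2, h3, h4, h5⟩ :=
    M.rel_inner hT hk' (M.inner_of_none (triOB_of hT) hk' hn)
  rw [relE_ok.2.2.2] at hj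
  refine ⟨j, hj, ?_⟩
  rw [of_decide_eq_true (List.all_eq_true.mp relE_ok.2.2.1 j (List.mem_range.mpr hj))]
  refine ⟨fun c => [A, A'].getD c 1, fun c hc => ?_, ?_⟩
  · simp only [List.length_cons, List.length_nil, Nat.reduceAdd] at hc
    interval_cases c <;> simp only [List.getD_cons_zero, List.getD_cons_succ]
    · exact ⟨h1, h4⟩
    · exact ⟨h2, h5⟩
  · simpa only [List.length_cons, List.length_nil, Nat.reduceAdd, Eng.pre, List.getD_cons_zero,
      List.getD_cons_succ, one_mul, Tri.rel] using h3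

end CfsgLib.StdM12.Link
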