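import Cfsg.Agent.Lib.StdM12.Link.OCand
import Cfsg.Agent.Lib.StdM12.Eng.Cand

/-!
The relations given by the products around the triangles.
-/

set_option autoImplicit false
set_option maxRecDepth 100000
set_option maxHeartbeats 1000000

namespace CfsgLib.StdM12.Link

open Equiv Subgroup CfsgPC Co3M12 Co3M12.Eng

attribute [local irreducible] Co3M12.Data.chain

variable {G : Type*} [Group G] {B : OBase G}

/-- A relation of three steps. -/
def Rel5 (ψ : UU →* G) (n : G) (R : ℕ × ℕ × ℕ × ℕ × ℕ) : Prop :=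
  ∃ A A', Cd ψ R.1 A ∧ Cd ψ R.2.1 A' ∧ Cd ψ R.2.2.1 (n * A * n * A' * n) ∧
    Cd ψ R.2.2.2.1 A⁻¹ ∧ Cd ψ R.2.2.2.2 A'⁻¹

theorem one_rel {ψ : UU →* G} {n : G} {R : ℕ × ℕ × ℕ × ℕ × ℕ} (h : Rel5 ψ n R) : ∀ S ∈ [R], Rel5 ψ n S := by
  simpa using h

theorem pair_rel {ψ : UU →* G} {n : G} {R R' : ℕ × ℕ × ℕ × ℕ × ℕ} (h : Rel5 ψ n R) (h' : Rel5 ψ n R') :
    ∀ S ∈ [R, R'], Rel5 ψ n S := by
  simpa using And.intro h h'

theorem OMove.mkSys (M : OMove B) {D : Co3M12.Eng.Dat} {allowed : List (ℕ × ℕ × ℕ × ℕ × ℕ)}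
    (hD : D.chain = Co3M12.Data.chain) (hact : Co3M12.actB M.k D.act = true) (h : fitB D allowed = true)
    (hR : ∀ S ∈ allowed, Rel5 B.ψ M.n S) : Sys D B.ψ M.n := by
  simp only [fitB, Bool.and_eq_true] at h
  obtain ⟨⟨hc1, hc2⟩, hrel⟩ := h
  refine ⟨fun c hc => ?_, fun q hq => ?_, ⟨?_, ?_⟩, fun R hR' => ?_⟩
  · obtain ⟨u, hu⟩ := mem_of_memB hD hc
    exact ⟨_, u, hu, rfl⟩
  · have h2 := List.all_eq_true.mp hact q hq
    simp only [Bool.and_eq_true, inC, Nat.blt_eq] at h2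
    obtain ⟨⟨hp, he⟩, hi⟩ := h2
    refine ⟨B.ψ (elt (img M.k (pos q.2))), B.ψ (kx (pos q.2)), ⟨_, ?_, rfl⟩, ⟨_, ?_, rfl⟩, M.conj _ hp⟩
    · exact (Nat.eq_of_beq_eq_true hi) ▸ (img_spec M.hk hp).1
    · have h3 := (kc_spec hp).1
      rw [Nat.eq_of_beq_eq_true he] at h3
      rw [kx, Nat.eq_of_beq_eq_true he]
      exact h3
  · rw [Nat.eq_of_beq_eq_true hc1, M.sq]; exact Cd.one
  · rw [Nat.eq_of_beq_eq_true hc2, M.sq, inv_one]; exact Cd.one
  · obtain ⟨S, hS, e⟩ := List.any_eq_true.mp (List.all_eq_true.mp hrel R hR')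
    simp only [Bool.and_eq_true] at e
    obtain ⟨⟨⟨⟨e1, e2⟩, e3⟩, e4⟩, e5⟩ := e
    rw [Nat.eq_of_beq_eq_true e1, Nat.eq_of_beq_eq_true e2, Nat.eq_of_beq_eq_true e3, Nat.eq_of_beq_eq_true e4,
      Nat.eq_of_beq_eq_true e5]
    exact hR S hS

theorem OMove.not_range (M : OMove B) : M.n ∉ B.ψ.range := by
  rintro ⟨u, hu⟩
  have h := M.conj _ (gi_spec (a := 2) (by norm_num)).1
  have hh := List.all_eq_true.mp img_ok M.k (List.mem_range.mpr M.hk)
  simp only [Bool.and_eq_true] at hh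
  rw [kx_gi_two, ← hu, ← map_inv, ← map_mul, ← map_mul,
    show elt (img M.k (gi 2)) = zx * tx from
      rp_eq (img_spec M.hk (gi_spec (a := 2) (by norm_num)).1).1 (rp_mul zc_spec tx_spec) hh.1.2] at h
  have h2 := B.inj h
  rw [← zx_central, mul_assoc, mul_inv_cancel, mul_one] at h2
  exact tx_ne_one (mul_left_cancel (h2.symm.trans (mul_one zx).symm))

theorem OMove.collapse (M : OMove B) {D : Co3M12.Eng.Dat} {get : ℕ → ℕ} {N g d : ℕ}
    (hc : ∀ m < N, factB D get m = true)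
    (hg : g < N ∧ d < N ∧ (!isE (get g) && isE (get d) && Nat.beq (opF (get d)) 0 && Nat.beq (aF (get d)) 0 &&
      Nat.beq (bF (get d)) (aF (get g)) && Nat.beq (bF (get g)) 0) = true) (S : Sys D B.ψ M.n) : False :=
  M.not_range (mem_of_collapse (all_good S hc g hg.1) (all_good S hc d hg.2.1) hg.2.2)

/-- A configuration bounded by two cosets is impossible. -/
theorem OMove.small_false [Finite G] (M : OMove B)
    (h : Nat.card ↥(B.ψ.range ⊔ zpowers M.n) ≤ 190080 * 2) : False := by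
  set H := B.ψ.range ⊔ zpowers M.n with hH
  have hn : M.n ∈ H := mem_sup_right (mem_zpowers _)
  have hrc : Nat.card B.ψ.range = 190080 :=
    (Nat.card_congr (MonoidHom.ofInjective B.inj).toEquiv).symm.trans closed.2
  have hm : Nat.card (B.ψ.range.subgroupOf H) * (B.ψ.range.subgroupOf H).index = Nat.card H :=
    card_mul_index _
  rw [Nat.card_congr (subgroupOfEquivOfLe (le_sup_left : B.ψ.range ≤ H)).toEquiv, hrc] at hm
  have hi : (B.ψ.range.subgroupOf H).index ≤ 2 := by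
    by_contra h3
    have : 190080 * 3 ≤ Nat.card H := hm ▸ Nat.mul_le_mul_left _ (by omega)
    omega
  have hne : (B.ψ.range.subgroupOf H).index ≠ 1 := fun e =>
    M.not_range (mem_subgroupOf.mp ((index_eq_one.mp e).symm ▸ mem_top (⟨M.n, hn⟩ : H)))
  have hi2 : (B.ψ.range.subgroupOf H).index = 2 := by
    have : (B.ψ.range.subgroupOf H).index ≠ 0 := index_ne_zero_of_finite
    omega
  haveI := normal_of_index_eq_two hi2
  -- conjugates of the central involution are central in the product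
  have hc : ∀ u : UU, Commute (B.z * B.t) (B.ψ u) := by
    intro u
    have hu : (⟨B.ψ u, mem_sup_left ⟨u, rfl⟩⟩ : H) ∈ B.ψ.range.subgroupOf H := mem_subgroupOf.mpr ⟨u, rfl⟩
    obtain ⟨v, hv⟩ := mem_subgroupOf.mp
      ((inferInstance : (B.ψ.range.subgroupOf H).Normal).conj_mem _ hu (⟨M.n, hn⟩ : H)⁻¹)
    simp only [inv_inv, coe_mul, coe_inv] at hv
    have hz := M.conj _ (gi_spec (a := 2) (by norm_num)).1
    have hh := List.all_eq_true.mp img_ok M.k (List.mem_range.mpr M.hk)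
    simp only [Bool.and_eq_true] at hh
    rw [kx_gi_two, show elt (img M.k (gi 2)) = zx * tx from
      rp_eq (img_spec M.hk (gi_spec (a := 2) (by norm_num)).1).1 (rp_mul zc_spec tx_spec) hh.1.2, map_mul] at hz
    show B.z * B.t * B.ψ u = B.ψ u * (B.z * B.t)
    rw [OBase.z, OBase.t, ← hz, show B.ψ u = M.n * B.ψ v * M.n⁻¹ by rw [hv]; group]
    calc M.n * B.ψ zx * M.n⁻¹ * (M.n * B.ψ v * M.n⁻¹) = M.n * (B.ψ zx * B.ψ v) * M.n⁻¹ := by group
      _ = M.n * (B.ψ v * B.ψ zx) * M.n⁻¹ := by rw [← map_mul, zx_central, map_mul]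
      _ = _ := by group
  have htc : ∀ u : UU, tx * u = u * tx := fun u => by
    have := hc u
    rw [Commute, SemiconjBy, OBase.z, OBase.t, ← map_mul, ← map_mul, ← map_mul] at this
    have e := B.inj this
    rw [mul_assoc, ← mul_assoc u, ← zx_central u, mul_assoc zx u] at e
    exact mul_left_cancel e
  have hfull : Nat.card UU ≤ Nat.card (centralizer ({tx} : Set UU)) :=
    le_of_eq (Nat.card_congr (Equiv.subtypeUnivEquiv fun u => mem_centralizer_singleton_iff.mpr (htc u).symm)).symm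
  obtain ⟨p, hp, hpt⟩ := moved_t
  exact hpt (mul_inv_eq_iff_eq_mul.mpr (htc (rx p)).symm)
where
  moved_t : ∃ p < 495, rx p * tx * (rx p)⁻¹ ≠ tx :=
    ⟨pBeta, Nat.blt_eq.mp tB_ok.2.2.2, fun e => by
      have h1 := (rx_spec (Nat.blt_eq.mp tB_ok.2.2.2)).2.1
      rw [e] at h1
      have h2 : canonB Co3M12.Data.tC = true := named_ok.2.2.2.1
      have h3 := canon_eq (rx_spec (Nat.blt_eq.mp tB_ok.2.2.2)).2.2.1 h2 h1 tx_spec
      exact absurd (h3 ▸ Nat.beq_refl _) moved_ok⟩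
  moved_ok : ¬ Nat.beq (Loc.tConj.getD pBeta 0) Co3M12.Data.tC = true := by decide +kernel

/-- The product around a triangle. -/
noncomputable def OMove.prod (M : OMove B) (T : Tri) : G :=
  M.n * B.ψ (elt T.l) * M.n * B.ψ (elt T.m) * M.n

theorem OMove.prod_spec (M : OMove B) {T : Tri} (hT : triOB T = true) (hk : M.k = T.k) :
    Rp T.l (elt T.l) ∧ Rp T.m (elt T.m) ∧ Rp T.li (elt T.l)⁻¹ ∧ Rp T.mi (elt T.m)⁻¹ ∧
      M.prod T * B.z = B.z * M.prod T ∧
      ∀ c ∈ T.cs, ∃ v, Rp (T.rhs c) v ∧ B.ψ (kx c) * M.prod T = M.prod T * B.ψ v := by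
  obtain ⟨l, m, hl, hm, hli, hmi, hz, heq⟩ := M.triangle hT hk
  obtain rfl : elt T.l = l := rp_elt hl
  obtain rfl : elt T.m = m := rp_elt hm
  exact ⟨hl, hm, hli, hmi, hz, heq⟩

/-- An inner product is one of the candidates. -/
theorem OMove.rel_inner (M : OMove B) {T : Tri} (hT : triB T = true) (hk : M.k = T.k)
    (hin : M.prod T ∈ B.ψ.range) : ∃ j < T.es.length, Rel5 B.ψ M.n (T.rel (T.es.getD j 0)) := by
  obtain ⟨hl, hm, hli, hmi, -, heq⟩ := M.prod_spec (triOB_of hT) hk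
  obtain ⟨u, hu⟩ := hin
  obtain ⟨e, he, hru⟩ := inner_cand hT (u := u) fun c hc => by
    obtain ⟨v, hv, e⟩ := heq c hc
    rw [← hu, ← map_mul, ← map_mul] at e
    exact ⟨v, hv, B.inj e⟩
  obtain ⟨j, hj, rfl⟩ := List.getElem_of_mem he
  refine ⟨j, hj, B.ψ (elt T.l), B.ψ (elt T.m), ⟨_, hl, rfl⟩, ⟨_, hm, rfl⟩, ?_, ⟨_, hli, map_inv _ _⟩,
    ⟨_, hmi, map_inv _ _⟩⟩
  rw [Tri.rel, List.getD_eq_getElem _ _ hj]
  exact ⟨u, hru, hu⟩

/-- An outer product is one of the outer solutions. -/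
theorem OMove.outer_or (M : OMove B) {T : Tri} {bc : List (ℕ × ℕ × ℕ)} {sols : List OSol} (hT : triOB T = true)
    (hk : M.k = T.k) (h : outB T bc sols = true) : M.prod T ∈ B.ψ.range ∨
      ∃ (s : G) (u : UU) (o : OSol), o ∈ sols ∧ Rp o.u.1 u ∧ (∀ v, s * B.ψ v * s⁻¹ = B.ψ (beta v)) ∧
        (s * s = 1 ∨ s * s = B.z) ∧ M.prod T = s * B.ψ u := by
  obtain ⟨-, -, -, -, hz, heq⟩ := M.prod_spec hT hk
  rcases B.split _ hz with ⟨u, hu⟩ | ⟨s, u, hu, hs, h2⟩
  · exact Or.inl ⟨u, hu⟩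
  · rw [hu] at heq
    obtain ⟨o, ho, hru⟩ := outer_cand hT h hs heq
    exact Or.inr ⟨s, u, o, ho, hru, hs, h2, hu⟩

theorem data_ok : triOB (tri 1) = true ∧ triOB (tri 4) = true ∧ triOB tri306_0 = true ∧ triOB tri306_2 = true ∧
    triB tri102_0 = true ∧ triB tri102_2 = true ∧ triB (tri 0) = true ∧ triB (tri 3) = true ∧
    outB tri306_0 csB306_0 sols306_0 = true ∧ outB tri306_2 csB306_2 sols306_2 = true ∧
    outB tri102_0 csB102_0 [] = true ∧ outB tri102_2 csB102_2 [] = true ∧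
    outB (tri 0) csB102_0 [] = true ∧ outB (tri 3) csB102_2 [] = true ∧
    sols306_0.all solB = true ∧ sols306_2.all solB = true := by decide +kernel

theorem OMove.inner_of_none (M : OMove B) {T : Tri} {bc : List (ℕ × ℕ × ℕ)} (hT : triOB T = true) (hk : M.k = T.k)
    (h : outB T bc [] = true) : M.prod T ∈ B.ψ.range := by
  rcases M.outer_or hT hk h with h1 | ⟨_, _, _, h1, -⟩
  · exact h1
  · exact absurd h1 List.not_mem_nil

theorem OMove.no_outer0 (M : OMove B) (hk : M.k = 0) : M.prod (tri 0) ∈ B.ψ.range :=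
  M.inner_of_none (triOB_of data_ok.2.2.2.2.2.2.1) (hk.trans (by rfl)) data_ok.2.2.2.2.2.2.2.2.2.2.2.2.1

theorem OMove.no_outer2 (M : OMove B) (hk : M.k = 2) : M.prod (tri 3) ∈ B.ψ.range :=
  M.inner_of_none (triOB_of data_ok.2.2.2.2.2.2.2.1) (hk.trans (by rfl)) data_ok.2.2.2.2.2.2.2.2.2.2.2.2.2.1

theorem OMove.tri_rel (M : OMove B) {i : ℕ} (hi : i < tris.length) {k : ℕ} (hk : M.k = k)
    (hin : M.prod (tri i) ∈ B.ψ.range) (hik : (tri i).k = k := by rfl) :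
    ∃ j < (tri i).es.length, Rel5 B.ψ M.n ((tri i).rel ((tri i).es.getD j 0)) := by
  refine M.rel_inner (List.all_eq_true.mp tris_ok _ ?_) (hk.trans hik.symm) hin
  rw [tri, List.getD_eq_getElem _ _ hi]
  exact List.getElem_mem _

end CfsgLib.StdM12.Link
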