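import Cfsg.Agent.Lib.StdM12.Link.OCand

/-!
An outer element turns the two odd normal forms into even ones.
-/

set_option autoImplicit false
set_option maxRecDepth 100000
set_option maxHeartbeats 1000000

namespace CfsgLib.StdM12.Link

open Equiv Subgroup Cfsg CfsgPC Co3M12 Co3M12.Eng StdM12.Model

attribute [local irreducible] Co3M12.Data.chain

/-- The values of the shifted action are right and are conjugate to none of the odd actions. -/
def shiftB (k : ℕ) (L : List (ℕ × ℕ × ℕ)) : Bool :=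
  L.all betaB && Nat.beq L.length 3 && L.all (fun e => canonB e.2.1) && ((List.range 3).all fun a =>
    Nat.beq (cp 14 uShift.1 (cp 14 (img k (gi a)) uShift.2)) (L.getD a (0, 0, 0)).1) &&
  ((List.range 384).all fun c => ([1, 3] : List ℕ).all fun k' =>
    !((List.range 3).all fun a => Nat.beq (cp 14 (kc c) (cp 14 (img k' (gi a)) (kd c))) (L.getD a (0, 0, 0)).2.1))

theorem shift1_ok : shiftB 1 shift1 = true := by decide +kernel

theorem shift3_ok : shiftB 3 shift3 = true := by decide +kernel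

theorem uShift_ok : memB D0 uShift.1 = true ∧ Nat.beq (cp 14 uShift.2 uShift.1) one14 = true ∧
    Nat.beq (cp 14 uShift.1 (cp 14 Co3M12.Data.tC uShift.2)) tShift.1 = true ∧ betaB tShift = true ∧
    Nat.beq tShift.2.1 Co3M12.Data.tC = true := by decide +kernel

variable {G : Type*} [Group G] {B : OBase G}

theorem OMove.nz (M : OMove B) : M.n * B.z * M.n⁻¹ = B.z * B.t ∧ M.n * B.t * M.n⁻¹ = B.t := by
  have h := M.conj _ (gi_spec (a := 2) (by norm_num)).1
  have hh := List.all_eq_true.mp img_ok M.k (List.mem_range.mpr M.hk)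
  simp only [Bool.and_eq_true] at hh
  rw [kx_gi_two, show elt (img M.k (gi 2)) = zx * tx from
    rp_eq (img_spec M.hk (gi_spec (a := 2) (by norm_num)).1).1 (rp_mul zc_spec tx_spec) hh.1.2, map_mul] at h
  refine ⟨h, ?_⟩
  have hi : M.n⁻¹ = M.n := M.inv_n
  have h2 : M.n * (B.z * B.t) * M.n⁻¹ = B.z := by
    rw [← (show M.n * B.z * M.n⁻¹ = B.z * B.t from h)]
    calc M.n * (M.n * B.z * M.n⁻¹) * M.n⁻¹ = M.n * M.n * B.z * (M.n * M.n)⁻¹ := by group
      _ = B.z := by rw [M.sq, one_mul, inv_one, mul_one]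
  calc M.n * B.t * M.n⁻¹ = (M.n * B.z * M.n⁻¹)⁻¹ * (M.n * (B.z * B.t) * M.n⁻¹) := by group
    _ = B.t⁻¹ * B.z⁻¹ * B.z := by rw [h2, show M.n * B.z * M.n⁻¹ = B.z * B.t from h, mul_inv_rev]
    _ = B.t := by rw [inv_mul_cancel_right, inv_eq_of_mul_eq_one_right B.t_sq]

/-- With an outer element in the centraliser there is an even normal form. -/
theorem OMove.exists_even (M : OMove B) {s : G} (hs : ∀ v, s * B.ψ v * s⁻¹ = B.ψ (beta v))
    (hk : M.k = 1 ∨ M.k = 3) : ∃ M' : OMove B, M'.k = 0 ∨ M'.k = 2 := by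
  obtain ⟨hu, hui, ht, hbt, htt⟩ := uShift_ok
  set u := elt uShift.1
  have ru : Rp uShift.1 u := elt_spec hu
  have rui : Rp uShift.2 u⁻¹ := rp_inv ru hui
  set y := s * B.ψ u
  have hy : ∀ v : UU, y * B.ψ v * y⁻¹ = B.ψ (beta (u * (v * u⁻¹))) := fun v => by
    rw [← hs, map_mul, map_mul, map_inv]; simp only [y]; group
  have hyt : y * B.t * y⁻¹ = B.t := by
    have e := beta_spec hbt ((Nat.eq_of_beq_eq_true ht) ▸ rp_mul ru (rp_mul tx_spec rui))
    rw [OBase.t, hy, rp_eq e tx_spec htt]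
  have hyz : y * B.z * y⁻¹ = B.z := by
    rw [OBase.z, hy, zx_central, mul_inv_cancel_left, beta_zx]
  obtain ⟨hz, htn⟩ := M.nz
  have hnz : y * M.n * B.z * (y * M.n)⁻¹ = B.z * B.t := by
    calc y * M.n * B.z * (y * M.n)⁻¹ = y * (M.n * B.z * M.n⁻¹) * y⁻¹ := by group
      _ = y * B.z * y⁻¹ * (y * B.t * y⁻¹) := by rw [hz]; group
      _ = _ := by rw [hyz, hyt]
  have hnt : y * M.n * B.t * (y * M.n)⁻¹ = B.t := by
    calc y * M.n * B.t * (y * M.n)⁻¹ = y * (M.n * B.t * M.n⁻¹) * y⁻¹ := by group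
      _ = _ := by rw [htn, hyt]
  obtain ⟨M', c, hc, hM'⟩ := B.exists_normal hnz hnt
  refine ⟨M', ?_⟩
  by_contra hne
  have hk' : M'.k = 1 ∨ M'.k = 3 := by have := M'.hk; omega
  obtain ⟨L, hL⟩ : ∃ L, shiftB M.k L = true := by
    rcases hk with e | e
    · exact ⟨_, e.symm ▸ shift1_ok⟩
    · exact ⟨_, e.symm ▸ shift3_ok⟩
  simp only [shiftB, Bool.and_eq_true] at hL
  obtain ⟨⟨⟨⟨hb, hlen⟩, hcan⟩, himg⟩, hnone⟩ := hL
  have h := List.all_eq_true.mp (List.all_eq_true.mp hnone c (List.mem_range.mpr hc)) M'.k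
    (List.mem_cons.mpr (hk'.imp_right fun e => List.mem_singleton.mpr e))
  rw [Bool.not_eq_true', Bool.eq_false_iff] at h
  refine h (List.all_eq_true.mpr fun a ha => ?_)
  rw [List.mem_range] at ha
  have hi : Nat.beq (cp 14 uShift.1 (cp 14 (img M.k (gi a)) uShift.2)) (L.getD a (0, 0, 0)).1 = true :=
    List.all_eq_true.mp himg a (List.mem_range.mpr ha)
  have hla : a < L.length := by rw [Nat.eq_of_beq_eq_true hlen]; exact ha
  have hmem : L.getD a (0, 0, 0) ∈ L := by rw [List.getD_eq_getElem _ _ hla]; exact List.getElem_mem _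
  have key : B.ψ (kx c * (elt (img M'.k (gi a)) * (kx c)⁻¹)) = B.ψ (beta (u * (elt (img M.k (gi a)) * u⁻¹))) := by
    rw [map_mul, map_mul, map_inv, ← mul_assoc, ← hM' a ha, ← hy, ← M.conj _ (gi_spec ha).1]
    group
  have r1 := beta_spec (List.all_eq_true.mp hb _ hmem) ((Nat.eq_of_beq_eq_true hi) ▸ rp_mul ru (rp_mul (img_spec M.hk (gi_spec ha).1).1 rui))
  rw [← B.inj key] at r1
  have r2 := rp_mul (kc_spec hc).1 (rp_mul (img_spec M'.hk (gi_spec ha).1).1 (kd_spec hc))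
  rw [canon_eq (canon_cp (kc_spec hc).1 (rp_mul (img_spec M'.hk (gi_spec ha).1).1 (kd_spec hc)))
    (List.all_eq_true.mp hcan _ hmem) r2 r1]
  exact Nat.beq_refl _

end CfsgLib.StdM12.Link
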