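import Cfsg.Agent.Lib.StdM12.Link.ONormal
import Cfsg.Agent.Lib.Co3M12.Dispatch

/-!
The product around a triangle when the centraliser may have an outer part: it commutes with the central involution
and satisfies the same equations.
-/

set_option autoImplicit false
set_option maxRecDepth 100000
set_option maxHeartbeats 1000000

namespace CfsgLib.StdM12.Link

open Equiv Subgroup CfsgPC Co3M12 Co3M12.Eng

attribute [local irreducible] Co3M12.Data.chain elt Co3M12.img gi pos kc zc gc Co3M12.Tri.cand Co3M12.Tri.zh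
  Co3M12.Tri.rhs Co3M12.Tri.mid Co3M12.Tri.last

/-- The checks of a triangle without its candidates. -/
def triOB (T : Tri) : Bool :=
  Nat.blt T.k 4 && Nat.blt T.h 384 && memB D0 T.l && memB D0 T.m && Nat.beq (cp 14 T.li T.l) one14 &&
  Nat.beq (cp 14 T.mi T.m) one14 && Nat.beq (cp 14 T.li (cp 14 Co3M12.Data.tC T.l)) (kc T.h) &&
  inC (cp 14 zc (kc T.h)) && Nat.beq (cp 14 T.m (cp 14 Co3M12.Data.tC T.mi)) (cp 14 zc (img T.k T.zh)) &&
  inC Co3M12.Data.tC && T.cs.contains (pos Co3M12.Data.tC) && (Loc.tTree.find (T.rhs (pos Co3M12.Data.tC))).isSome &&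
  (T.cs.all fun c => Nat.blt c 384 && inC (T.mid c) && inC (T.last c))

theorem triOB_of {T : Tri} (h : triB T = true) : triOB T = true := by
  simp only [triB, Bool.and_eq_true] at h
  simp only [triOB, Bool.and_eq_true]
  exact h.1

variable {G : Type*} [Group G] {B : OBase G}

theorem OMove.inv_n (M : OMove B) : M.n⁻¹ = M.n := inv_eq_of_mul_eq_one_right M.sq

theorem OMove.push (M : OMove B) {i : ℕ} (hi : i < 384) :
    B.ψ (kx i) * M.n = M.n * B.ψ (elt (img M.k i)) ∧ M.n * B.ψ (kx i) = B.ψ (elt (img M.k i)) * M.n := by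
  have h := M.conj i hi
  refine ⟨?_, ?_⟩
  · rw [← h, M.inv_n]
    calc B.ψ (kx i) * M.n = M.n * M.n * B.ψ (kx i) * M.n := by rw [M.sq, one_mul]
      _ = _ := by group
  · rw [← h]; group

/-- What holds around a triangle. -/
theorem OMove.triangle (M : OMove B) {T : Tri} (hT : triOB T = true) (hk : M.k = T.k) :
    ∃ l m : UU, Rp T.l l ∧ Rp T.m m ∧ Rp T.li l⁻¹ ∧ Rp T.mi m⁻¹ ∧
      M.n * B.ψ l * M.n * B.ψ m * M.n * B.z = B.z * (M.n * B.ψ l * M.n * B.ψ m * M.n) ∧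
      ∀ c ∈ T.cs, ∃ v, Rp (T.rhs c) v ∧
        B.ψ (kx c) * (M.n * B.ψ l * M.n * B.ψ m * M.n) = M.n * B.ψ l * M.n * B.ψ m * M.n * B.ψ v := by
  simp only [triOB, Bool.and_eq_true, Nat.blt_eq] at hT
  obtain ⟨⟨⟨⟨⟨⟨⟨⟨⟨⟨⟨⟨hk4, hh⟩, hl⟩, hm⟩, hli⟩, hmi⟩, eh⟩, hzh⟩, ew⟩, ht⟩, htc⟩, hfind⟩, hcs⟩ := hT
  set l := elt T.l
  set m := elt T.m
  have rl : Rp T.l l := elt_spec hl
  have rm : Rp T.m m := elt_spec hm
  have rli : Rp T.li l⁻¹ := rp_inv rl hli
  have rmi : Rp T.mi m⁻¹ := rp_inv rm hmi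
  have himg : ∀ {i}, i < 384 → Rp (img T.k i) (elt (img T.k i)) := fun hi => (img_spec hk4 hi).1
  have e1 : l⁻¹ * (tx * l) = kx T.h := rp_eq (rp_mul rli (rp_mul tx_spec rl)) (kc_spec hh).1 eh
  obtain ⟨hz2, e2⟩ := inC_spec hzh (rp_mul zc_spec (kc_spec hh).1)
  rw [show pos (cp 14 zc (kc T.h)) = T.zh from (Tri.zh_def T).symm] at hz2 e2
  have e3 : m * (tx * m⁻¹) = zx * elt (img T.k T.zh) :=
    rp_eq (rp_mul rm (rp_mul tx_spec rmi)) (rp_mul zc_spec (himg hz2)) ew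
  set E := M.n * B.ψ l * M.n * B.ψ m * M.n with hE
  have hpush := fun {i} (hi : i < 384) => hk ▸ M.push hi
  have hzn : B.ψ zx * M.n = M.n * (B.z * B.t) := by
    have := (hpush (gi_spec (a := 2) (by norm_num)).1).1
    rw [kx_gi_two] at this
    rw [this]
    refine congrArg _ ?_
    have hh' := List.all_eq_true.mp img_ok T.k (List.mem_range.mpr hk4)
    simp only [Bool.and_eq_true] at hh'
    rw [show elt (img T.k (gi 2)) = zx * tx from
      rp_eq (himg (gi_spec (a := 2) (by norm_num)).1) (rp_mul zc_spec tx_spec) hh'.1.2, map_mul]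
    rfl
  have hc : E * B.z = B.z * E := by
    have f1 : B.ψ m * (B.z * B.t) = B.ψ (elt (img T.k T.zh)) * B.ψ m := by
      rw [OBase.z, OBase.t, ← map_mul, ← map_mul, ← map_mul]
      refine congrArg _ ?_
      have : elt (img T.k T.zh) = zx * (m * (tx * m⁻¹)) := by rw [e3, ← mul_assoc, zx_sq, one_mul]
      rw [this, ← mul_assoc m zx tx, ← zx_central m]; group
    have f2 : B.ψ l * B.ψ (kx T.zh) = B.z * B.t * B.ψ l := by
      rw [OBase.z, OBase.t, ← map_mul, ← map_mul, ← map_mul]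
      refine congrArg _ ?_
      rw [e2, ← show l⁻¹ * (tx * l) = elt (kc T.h) from e1, ← mul_assoc l zx, ← zx_central l]; group
    have hzn2 : M.n * (B.z * B.t) = B.z * M.n := hzn.symm
    have hnz : M.n * B.z = (B.z * B.t) * M.n := by
      calc M.n * B.z = M.n * (B.z * M.n) * M.n := by rw [mul_assoc M.n, mul_assoc B.z, M.sq, mul_one]
        _ = M.n * (M.n * (B.z * B.t)) * M.n := by rw [hzn2]
        _ = _ := by rw [← mul_assoc M.n M.n, M.sq, one_mul]
    have hnzh : M.n * B.ψ (elt (img T.k T.zh)) = B.ψ (kx T.zh) * M.n := (hpush hz2).1.symm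
    calc E * B.z = M.n * B.ψ l * M.n * B.ψ m * (M.n * B.z) := by rw [hE]; group
      _ = M.n * B.ψ l * M.n * (B.ψ m * (B.z * B.t)) * M.n := by rw [hnz]; group
      _ = M.n * B.ψ l * (M.n * B.ψ (elt (img T.k T.zh))) * B.ψ m * M.n := by rw [f1]; group
      _ = M.n * (B.ψ l * B.ψ (kx T.zh)) * M.n * B.ψ m * M.n := by rw [hnzh]; group
      _ = M.n * (B.z * B.t) * B.ψ l * M.n * B.ψ m * M.n := by rw [f2]; group
      _ = _ := by rw [hzn2, hE]; group
  refine ⟨l, m, rl, rm, rli, rmi, hc, fun c hc' => ?_⟩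
  have h2 := List.all_eq_true.mp hcs c hc'
  simp only [Bool.and_eq_true, Nat.blt_eq] at h2
  obtain ⟨⟨hc384, hmid⟩, hlast⟩ := h2
  obtain ⟨hj, ej⟩ := inC_spec hmid
    (show Rp (T.mid c) _ from (Tri.mid_def T c).symm ▸ rp_mul rli (rp_mul (himg hc384) rl))
  obtain ⟨hi, ei⟩ := inC_spec hlast
    (show Rp (T.last c) _ from (Tri.last_def T c).symm ▸ rp_mul rmi (rp_mul (himg hj) rm))
  refine ⟨elt (img T.k (pos (T.last c))), (Tri.rhs_def T c).symm ▸ himg hi, ?_⟩
  have g1 : B.ψ (elt (img T.k c)) * B.ψ l = B.ψ l * B.ψ (kx (pos (T.mid c))) := by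
    rw [← map_mul, ← map_mul, ej]; group
  have g2 : B.ψ (elt (img T.k (pos (T.mid c)))) * B.ψ m = B.ψ m * B.ψ (kx (pos (T.last c))) := by
    rw [← map_mul, ← map_mul, ei]; group
  calc B.ψ (kx c) * (M.n * B.ψ l * M.n * B.ψ m * M.n)
      = (B.ψ (kx c) * M.n) * B.ψ l * M.n * B.ψ m * M.n := by group
    _ = M.n * (B.ψ (elt (img T.k c)) * B.ψ l) * M.n * B.ψ m * M.n := by rw [(hpush hc384).1]; group
    _ = M.n * B.ψ l * (B.ψ (kx (pos (T.mid c))) * M.n) * B.ψ m * M.n := by rw [g1]; group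
    _ = M.n * B.ψ l * M.n * (B.ψ (elt (img T.k (pos (T.mid c)))) * B.ψ m) * M.n := by rw [(hpush hj).1]; group
    _ = M.n * B.ψ l * M.n * B.ψ m * (B.ψ (kx (pos (T.last c))) * M.n) := by rw [g2]; group
    _ = _ := by rw [(hpush hi).1]; group

/-- The facts on the position of `t` in a triangle. -/
theorem triOB_t {T : Tri} (hT : triOB T = true) : pos Co3M12.Data.tC ∈ T.cs ∧ kx (pos Co3M12.Data.tC) = tx ∧
    ∃ p < 495, Loc.tTree.find (T.rhs (pos Co3M12.Data.tC)) = some p ∧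
      Rp (T.rhs (pos Co3M12.Data.tC)) (rx p * tx * (rx p)⁻¹) := by
  simp only [triOB, Bool.and_eq_true] at hT
  obtain ⟨⟨⟨⟨-, ht⟩, htc⟩, hfind⟩, -⟩ := hT
  obtain ⟨p, hp⟩ := Option.isSome_iff_exists.mp hfind
  have h3 := List.all_eq_true.mp tTree_ok _ (CTree.find_mem hp)
  simp only [Bool.and_eq_true, Nat.blt_eq] at h3
  exact ⟨List.contains_iff_mem.mp htc, (inC_spec ht tx_spec).2, p, h3.1, hp,
    (Nat.eq_of_beq_eq_true h3.2) ▸ (rx_spec h3.1).2.1⟩

/-- An element satisfying the equations of a triangle is one of its candidates. -/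
theorem inner_cand {T : Tri} (hT : triB T = true) {u : UU}
    (heq : ∀ c ∈ T.cs, ∃ v, Rp (T.rhs c) v ∧ kx c * u = u * v) : ∃ e ∈ T.es, Rp e u := by
  obtain ⟨htc, etx, p, hp, hfind, hrp⟩ := triOB_t (triOB_of hT)
  simp only [triB, Bool.and_eq_true, Nat.blt_eq] at hT
  obtain ⟨⟨-, hcs⟩, hcand⟩ := hT
  obtain ⟨v, hv, ev⟩ := heq _ htc
  rw [etx] at ev
  have ev2 : v = rx p * tx * (rx p)⁻¹ := rp_unique hv hrp
  obtain ⟨j, hj, ej⟩ := cent_tx (u := u * rx p) (by
    calc u * rx p * tx = u * (rx p * tx * (rx p)⁻¹) * rx p := by group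
      _ = tx * (u * rx p) := by rw [← ev2, ← ev]; group)
  have eu : u = kx j * (rx p)⁻¹ := by rw [← ej]; group
  have ru : Rp (T.cand j) u := by
    rw [eu, Tri.cand_def, hfind, Option.getD_some]
    exact rp_mul (kc_spec hj).1 (rx_inv hp)
  have hc2 := List.all_eq_true.mp hcand j (List.mem_range.mpr hj)
  simp only [Bool.or_eq_true, Bool.not_eq_true'] at hc2
  rcases hc2 with h4 | h4
  · exfalso
    rw [Bool.eq_false_iff] at h4
    refine h4 (List.all_eq_true.mpr fun c hc' => ?_)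
    obtain ⟨w, hw, ew2⟩ := heq c hc'
    have hc384 : c < 384 := by
      have := List.all_eq_true.mp hcs c hc'
      simp only [Bool.and_eq_true, Nat.blt_eq] at this
      exact this.1.1
    rw [canon_eq (canon_cp (kc_spec hc384).1 ru) (canon_cp ru hw) (rp_mul (kc_spec hc384).1 ru)
      (ew2 ▸ rp_mul ru hw)]
    exact Nat.beq_refl _
  · obtain ⟨e, he, hee⟩ := List.any_eq_true.mp h4
    exact ⟨e, he, (Nat.eq_of_beq_eq_true hee) ▸ ru⟩

end CfsgLib.StdM12.Link
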