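import Cfsg.Agent.Lib.StdM12.Link.Beta

/-!
No outer automorphism fixing the central involution `t` has `t` as a fourth power or centralises the common part
(blueprint/S1750.md, step 5).
-/

set_option autoImplicit false
set_option maxRecDepth 100000

namespace CfsgLib.StdM12.Link

open Equiv Cfsg CfsgGolay CfsgPC Co3M12 StdM12.Model

/-- The involution `t` on the 24 points. -/
def t24 : ℕ := 984404615340628635531544718971832448

/-- An element carrying the class representative to `t`. -/
def m24 : ℕ := 968956828204014356375163342676891904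

/-- The first generator of the common part on the 24 points. -/
def x24 : ℕ := 936486171315839370495561828673159752

/-- The second generator of the common part on the 24 points. -/
def y24 : ℕ := 652225463399799691682706533976121634

/-- A conjugate by the element carrying the representative to `t`. -/
def oc (c : ℕ) : ℕ := pcomp (pcomp m24 (pcomp (Data.outL.getD 1 0) c)) (pinv m24)

theorem outer_ok : linkB Co3M12.Data.tC t24 = true ∧ linkB (gc 0) x24 = true ∧ linkB (gc 1) y24 = true ∧
    inM m24 = true ∧ Nat.beq (pcomp m24 (Data.repL.getD 1 0)) (pcomp t24 m24) = true ∧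
    (Data.centB.all fun c => !Nat.beq (pcomp (pcomp (oc c) (oc c)) (pcomp (oc c) (oc c))) t24 &&
      !(Nat.beq (pcomp (oc c) x24) (pcomp x24 (oc c)) && Nat.beq (pcomp (oc c) y24) (pcomp y24 (oc c)))) = true := by
  decide +kernel

theorem exists_lo {c d : ℕ} (h : linkB c d = true) {u : UU} (hu : Rp c u) :
    ∃ g : ↥MM, code (g : Perm GolayPt) = d ∧ u = lo g := by
  obtain ⟨g, hg, e⟩ := exists_of_inM (by simp only [linkB, Bool.and_eq_true] at h; exact h.1.1.1)
  exact ⟨⟨g, hg⟩, e, rp_unique hu (lo_code h e)⟩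

/-- The element acting as the outer automorphism followed by an element of the copy. -/
noncomputable def oel (g : ↥MM) : ↥AA :=
  ⟨projInv * g, Or.inr (by rw [← mul_assoc, projInv_sq, one_mul]; exact g.2)⟩

theorem oel_notMem (g : ↥MM) : (oel g : Perm GolayPt) ∉ MM := fun h => projInv_notMem (by
  have := MM.mul_mem h (MM.inv_mem g.2)
  rwa [show (oel g : Perm GolayPt) = projInv * g from rfl, mul_inv_cancel_right] at this)

/-- Conjugation by that element. -/
noncomputable def oconj (g : ↥MM) (x : ↥MM) : ↥MM :=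
  ⟨(oel g : Perm GolayPt) * x * (oel g : Perm GolayPt)⁻¹, AA_norm (oel g).2 x.2⟩

theorem beta_conj (g x : ↥MM) : beta (lo g * lo x * (lo g)⁻¹) = lo (oconj g x) := by
  rw [← map_inv lo, ← map_mul, ← map_mul, beta_lo]
  refine congrArg lo (Subtype.ext ?_)
  show projInv * ((g : Perm GolayPt) * x * (g : Perm GolayPt)⁻¹) * projInv = projInv * g * x * (projInv * g)⁻¹
  rw [mul_inv_rev, projInv_inv]
  simp only [mul_assoc]

theorem oel_split {g : ↥MM} {tM : ↥MM} (ht : code (tM : Perm GolayPt) = t24)
    (h : oconj g tM = tM) : ∃ c ∈ Data.centB, code (oel g : Perm GolayPt) = oc c := by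
  obtain ⟨-, -, -, hm, hmt, -⟩ := outer_ok
  obtain ⟨m, hmM, hmc⟩ := exists_of_inM hm
  have hr := (rep_spec (show 1 < 3 by norm_num)).2.1
  have e1 : m * rep 1 = (tM : Perm GolayPt) * m := code_inj (by
    rw [code_mul, code_mul, hmc, hr, ht]; exact Nat.eq_of_beq_eq_true hmt)
  have e2 : (oel g : Perm GolayPt) * tM = tM * (oel g : Perm GolayPt) :=
    mul_inv_eq_iff_eq_mul.mp (congrArg Subtype.val h)
  set o := (oel g : Perm GolayPt)
  obtain ⟨h₀, z, hh, hz, e⟩ := outer_split (show 1 < 3 by norm_num)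
    (AA.mul_mem (AA.mul_mem (AA.inv_mem (MM_le_AA hmM)) (oel g).2) (MM_le_AA hmM))
    (fun hM => oel_notMem g (by
      have := MM.mul_mem (MM.mul_mem hmM hM) (MM.inv_mem hmM)
      rwa [show m * (m⁻¹ * o * m) * m⁻¹ = o by group] at this))
    (show m⁻¹ * o * m * rep 1 = rep 1 * (m⁻¹ * o * m) by
      calc m⁻¹ * o * m * rep 1 = m⁻¹ * (o * (m * rep 1)) := by group
        _ = m⁻¹ * (tM * o * m) := by rw [e1, ← mul_assoc o, e2]
        _ = m⁻¹ * tM * m * (m⁻¹ * o * m) := by group
        _ = _ := by rw [mul_assoc m⁻¹ (tM : Perm GolayPt) m, ← e1, inv_mul_cancel_left])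
  refine ⟨code z, cen_code clsB' hz, ?_⟩
  rw [show o = m * (h₀ * z) * m⁻¹ by rw [← e]; simp only [o]; group, code_mul, code_mul, code_mul, code_inv, hmc, hh]
  rfl

/-- No fourth root of `t` and no element centralising the common part among the outer elements fixing `t`. -/
theorem outer_excl {g tM xM yM : ↥MM} (ht : code (tM : Perm GolayPt) = t24) (hx : code (xM : Perm GolayPt) = x24)
    (hy : code (yM : Perm GolayPt) = y24) (h : oconj g tM = tM) :
    (∀ x, oconj g (oconj g (oconj g (oconj g x))) = tM * x * tM⁻¹) ∨ (oconj g xM = xM ∧ oconj g yM = yM) → False := by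
  obtain ⟨c, hc, ec⟩ := oel_split ht h
  have h2 := List.all_eq_true.mp outer_ok.2.2.2.2.2 c hc
  simp only [Bool.and_eq_true, Bool.not_eq_true', ← ec] at h2
  set o := (oel g : Perm GolayPt) with ho
  rintro (h4 | ⟨hxo, hyo⟩)
  · refine beq_false h2.1 ?_
    rw [← code_mul, ← code_mul, ← ht]
    refine congrArg Model.code ?_
    have hA : o * o * (o * o) ∈ AA := AA.mul_mem (AA.mul_mem (oel g).2 (oel g).2) (AA.mul_mem (oel g).2 (oel g).2)
    have := no_centralizer (AA.mul_mem (AA.inv_mem (MM_le_AA tM.2)) hA) fun x hx => by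
      have e : o * (o * (o * (o * x * o⁻¹) * o⁻¹) * o⁻¹) * o⁻¹ = tM * x * (tM : Perm GolayPt)⁻¹ :=
        congrArg Subtype.val (h4 ⟨x, hx⟩)
      calc (tM : Perm GolayPt)⁻¹ * (o * o * (o * o)) * x
          = (tM : Perm GolayPt)⁻¹ * (o * (o * (o * (o * x * o⁻¹) * o⁻¹) * o⁻¹) * o⁻¹) * (o * o * (o * o)) := by group
        _ = x * ((tM : Perm GolayPt)⁻¹ * (o * o * (o * o))) := by rw [e]; group
    exact (inv_mul_eq_one.mp this).symm
  · rw [Bool.and_eq_false_iff] at h2
    have ex : o * (xM : Perm GolayPt) = xM * o := mul_inv_eq_iff_eq_mul.mp (congrArg Subtype.val hxo)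
    have ey : o * (yM : Perm GolayPt) = yM * o := mul_inv_eq_iff_eq_mul.mp (congrArg Subtype.val hyo)
    rcases h2.2 with e | e
    · exact beq_false e (by rw [← hx, ← code_mul, ← code_mul, ex])
    · exact beq_false e (by rw [← hy, ← code_mul, ← code_mul, ey])

end CfsgLib.StdM12.Link
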